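import Groth.Agent.Torelli18.WSet

/-!
# Inclusions and intersections among the translates of the `W^r`
-/

set_option autoImplicit false
set_option linter.style.haveILetI false
set_option linter.unusedSectionVars false
set_option backward.isDefEq.respectTransparency false
set_option backward.isDefEq.respectTransparency.types false
set_option maxHeartbeats 1000000
set_option synthInstance.maxHeartbeats 400000

universe u

open CategoryTheory CategoryTheory.Limits AlgebraicGeometry MonoidalCategory CartesianMonoidalCategory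
open scoped CategoryTheory.MonObj

noncomputable section

namespace Groth.Agent.Torelli18

open Groth.Agent Groth.Agent.H23 Groth.Agent.H23.PicMul Groth.Agent.EllLaw Groth.Agent.PicCurve
  Groth.Agent.PicTangent Groth.Agent.PicTangent.JacDiff Groth.Agent.Pic13Lib Groth.Agent.H23.SymHilb
open scoped Groth.Agent.H23.PicMul

attribute [local instance] PicMul.clMonoid PicMul.law

section Algebra

variable {α : Type*} [CommGroup α]

theorem alg_star (K a z p : α) : K / (z / a⁻¹ * p) = (z * (K / (p * p))⁻¹)⁻¹ / a * p := by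
  apply (Additive.ofMul (α := α)).injective
  simp only [ofMul_mul, ofMul_div, ofMul_inv]
  abel

theorem alg_e1 (z a x q o : α) : z / (a * x) * q = z / a * (q * o) / (x * o) := by
  apply (Additive.ofMul (α := α)).injective
  simp only [ofMul_mul, ofMul_div, ofMul_inv]
  abel

theorem alg_e2 (z a x y q o t : α) : z / (a * x / y) * (q * o * t) = z / a * (q * o) * (y * (o * t)) / (x * o) := by
  apply (Additive.ofMul (α := α)).injective
  simp only [ofMul_mul, ofMul_div, ofMul_inv]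
  abel

theorem alg_e3 (K z a y A B C : α) :
    (z * (K / (A * B * C))⁻¹)⁻¹ / (y * a⁻¹) * C = K / (z / a * A * (y * B)) := by
  apply (Additive.ofMul (α := α)).injective
  simp only [ofMul_mul, ofMul_div, ofMul_inv]
  abel

end Algebra

variable {k : Type u} [Field k] [IsAlgClosed k] {X : Scheme.{u}} [X.Over (Spec (CommRingCat.of k))]
  [IsProper (X ↘ Spec (CommRingCat.of k))] [Smooth (X ↘ Spec (CommRingCat.of k))]
  [SmoothOfRelativeDimension 1 (X ↘ Spec (CommRingCat.of k))]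
  [GeometricallyConnected (X ↘ Spec (CommRingCat.of k))] [IsIntegral X]
  (hdim : topologicalKrullDim X = 1)
  {σ : Spec (CommRingCat.of k) ⟶ X} {hσ : σ ≫ (X ↘ Spec (CommRingCat.of k)) = 𝟙 _}
  {J : Over (Spec (CommRingCat.of k))} [GrpObj J] [IsCommMonObj J]
  {ψ : (ModFun.PicDeg (X ↘ Spec (CommRingCat.of k)) 0).Hom ⊤ J}
  {j : Over.mk (X ↘ Spec (CommRingCat.of k)) ⟶ J} (S : JData σ hσ ψ j)


include hdim

omit hdim in
theorem forall_mem_iff (a : B (k := k) ⟶ J) (A : Set J.left) : (∀ p, a.left.base p ∈ A) ↔ imgJ a ∈ A :=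
  ⟨fun h => h _, fun h p => by
    have : Subsingleton (B (k := k)).left := inferInstanceAs (Subsingleton (Spec (CommRingCat.of k)))
    rw [Subsingleton.elim p (IsLocalRing.closedPoint k)]
    exact h⟩

theorem dg_O_pow (p : Pt X) (n : ℕ) : dg k (O k hdim p ^ n) = n := by
  induction n with
  | zero => rw [pow_zero]; exact dg_one k
  | succ n ih => rw [pow_succ, dg_mul k hdim, ih, dg_O]; push_cast; ring

theorem mem_transl_W (r : ℕ) (a z : B (k := k) ⟶ J) :
    imgJ z ∈ (Jac.transl J a).left.base '' W j r ↔ 1 ≤ H k (φ S z / φ S a * (O k hdim (P₀ (σ := σ) (hσ := hσ))) ^ r) := by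
  rw [imgJ_mem_transl, mem_W_iff hdim S, map_mul, map_inv, ← div_eq_mul_inv]

include S in
theorem exists_point_of_divisor (a : B (k := k) ⟶ J) (l : List (Pt X)) :
    ∃ z : B (k := k) ⟶ J, φ S z = φ S a * (D k hdim l / (O k hdim (P₀ (σ := σ) (hσ := hσ))) ^ l.length) := by
  refine ⟨a * (List.ofFn fun i => ptAt (X ↘ Spec (CommRingCat.of k)) (l.get i).1 (l.get i).2 ≫ j).prod, ?_⟩
  rw [map_mul, φ_sum hdim S]
  congr 3
  refine List.ext_get (by simp) fun n h1 h2 => Subtype.ext ?_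
  simp only [List.get_eq_getElem, List.getElem_ofFn]
  exact pointOfClosedPoint_apply _ _ _ _

theorem mul_effective {c d : G X} {r : ℕ} (hd : dg k d = r) (h : 1 ≤ H k d) : H k c ≤ H k (c * d) := by
  obtain ⟨l, -, rfl⟩ := (eff_iff k hdim hd).1 h
  exact H_le_mul_D k hdim c l

theorem dg_φ_div (a b : B (k := k) ⟶ J) (n : ℕ) : dg k (φ S a / φ S b * (O k hdim (P₀ (σ := σ) (hσ := hσ))) ^ n) = n := by
  rw [← map_div, dg_mul k hdim, dg_φ hdim S, dg_O_pow hdim, zero_add]

/-- The key fact: a class of degree `s` meets all translates by effective classes of degree `r` only if effective. -/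
theorem effective_iff (r s : ℕ) (hrs : r + s + 1 = Curv2.genus k X) {c : G X} (hc : dg k c = s) :
    (∀ l : List (Pt X), l.length = r → 1 ≤ H k (c * D k hdim l)) ↔ 1 ≤ H k c := by
  refine ⟨fun h => ?_, fun h l _ => h.trans (H_le_mul_D k hdim c l)⟩
  by_contra hlt
  obtain ⟨l, hl, h0⟩ := exists_nonbase k hdim (c := c) (by omega) r (by omega)
  have := h l hl
  omega

/-- `W^r_a ⊆ W^{g-1}_b` if and only if `a ∈ W^{g-1-r}_b`. -/
theorem subset_iff (r : ℕ) (hr : r + 1 ≤ Curv2.genus k X) (a b : B (k := k) ⟶ J) :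
    (Jac.transl J a).left.base '' W j r ⊆ (Jac.transl J b).left.base '' W j (Curv2.genus k X - 1) ↔
      1 ≤ H k (φ S a / φ S b * (O k hdim (P₀ (σ := σ) (hσ := hσ))) ^ (Curv2.genus k X - 1 - r)) := by
  have hp : (O k hdim (P₀ (σ := σ) (hσ := hσ))) ^ (Curv2.genus k X - 1) = (O k hdim (P₀ (σ := σ) (hσ := hσ))) ^ r * (O k hdim (P₀ (σ := σ) (hσ := hσ))) ^ (Curv2.genus k X - 1 - r) := by
    rw [← pow_add]; congr 1; omega
  rw [← effective_iff hdim r (Curv2.genus k X - 1 - r) (by omega) (dg_φ_div hdim S a b _)]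
  constructor
  · intro h l hl
    obtain ⟨z, hz⟩ := exists_point_of_divisor hdim S a l
    rw [hl] at hz
    have h1 := h ((mem_transl_W hdim S r a z).2 (by
      rw [hz, mul_div_cancel_left, div_mul_cancel]
      exact one_le_H_D k hdim l))
    rw [mem_transl_W hdim S, hz, hp] at h1
    refine h1.trans_eq (congrArg (H k) ?_)
    simp only [div_eq_mul_inv]
    rw [show φ S a * (D k hdim l * ((O k hdim (P₀ (σ := σ) (hσ := hσ))) ^ r)⁻¹) * (φ S b)⁻¹ * ((O k hdim (P₀ (σ := σ) (hσ := hσ))) ^ r * (O k hdim (P₀ (σ := σ) (hσ := hσ))) ^ (Curv2.genus k X - 1 - r)) =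
      φ S a * (φ S b)⁻¹ * (O k hdim (P₀ (σ := σ) (hσ := hσ))) ^ (Curv2.genus k X - 1 - r) * D k hdim l * (((O k hdim (P₀ (σ := σ) (hσ := hσ))) ^ r)⁻¹ * (O k hdim (P₀ (σ := σ) (hσ := hσ))) ^ r) from by ac_rfl,
      inv_mul_cancel, mul_one]
  · intro h
    refine subset_of_points S (isClosed_transl a (isClosed_W S r))
      (isClosed_transl b (isClosed_W S _)) fun z hz => ?_
    rw [mem_transl_W hdim S] at hz ⊢
    obtain ⟨l, hl, hl'⟩ := (eff_iff k hdim (dg_φ_div hdim S z a r)).1 hz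
    refine (h l hl).trans_eq (congrArg (H k) ?_)
    rw [← hl', hp]
    simp only [div_eq_mul_inv]
    rw [show φ S a * (φ S b)⁻¹ * (O k hdim (P₀ (σ := σ) (hσ := hσ))) ^ (Curv2.genus k X - 1 - r) * (φ S z * (φ S a)⁻¹ * (O k hdim (P₀ (σ := σ) (hσ := hσ))) ^ r) =
      φ S z * (φ S b)⁻¹ * ((O k hdim (P₀ (σ := σ) (hσ := hσ))) ^ r * (O k hdim (P₀ (σ := σ) (hσ := hσ))) ^ (Curv2.genus k X - 1 - r)) * (φ S a * (φ S a)⁻¹) from by ac_rfl,
      mul_inv_cancel, mul_one]

include S in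
/-- `W^{g-1-r}` is the intersection of the translates `W^{g-1}_{a⁻¹}` for `a` in `W^r`. -/
theorem inter_eq (r : ℕ) (hr : r + 1 ≤ Curv2.genus k X) :
    W j (Curv2.genus k X - 1 - r) =
      ⋂ (a : B (k := k) ⟶ J) (_ : imgJ a ∈ W j r),
        (Jac.transl J a⁻¹).left.base '' W j (Curv2.genus k X - 1) := by
  have hp : (O k hdim (P₀ (σ := σ) (hσ := hσ))) ^ (Curv2.genus k X - 1) = (O k hdim (P₀ (σ := σ) (hσ := hσ))) ^ r * (O k hdim (P₀ (σ := σ) (hσ := hσ))) ^ (Curv2.genus k X - 1 - r) := by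
    rw [← pow_add]; congr 1; omega
  refine ext_closed S (isClosed_W S _)
    (isClosed_iInter fun a => isClosed_iInter fun _ => isClosed_transl a⁻¹ (isClosed_W S _)) fun z => ?_
  rw [Set.mem_iInter₂, mem_W_iff hdim S,
    ← effective_iff hdim r (Curv2.genus k X - 1 - r) (by omega)
      (by rw [dg_mul k hdim, dg_φ hdim S, dg_O_pow hdim, zero_add])]
  constructor
  · intro h a ha
    rw [mem_W_iff hdim S] at ha
    obtain ⟨l, hl, hl'⟩ := (eff_iff k hdim (r := r) (by rw [dg_mul k hdim, dg_φ hdim S, dg_O_pow hdim, zero_add])).1 ha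
    rw [mem_transl_W hdim S, map_inv, div_inv_eq_mul]
    refine (h l hl).trans_eq (congrArg (H k) ?_)
    rw [← hl', hp]
    ac_rfl
  · intro h l hl
    obtain ⟨a, ha⟩ := exists_point_of_divisor hdim S 1 l
    rw [map_one, one_mul, hl] at ha
    have h1 := h a (by
      rw [mem_W_iff hdim S, ha, div_mul_cancel]
      exact one_le_H_D k hdim l)
    rw [mem_transl_W hdim S, map_inv, div_inv_eq_mul, ha, hp] at h1
    refine h1.trans_eq (congrArg (H k) ?_)
    rw [show φ S z * (D k hdim l / (O k hdim (P₀ (σ := σ) (hσ := hσ))) ^ r) * ((O k hdim (P₀ (σ := σ) (hσ := hσ))) ^ r * (O k hdim (P₀ (σ := σ) (hσ := hσ))) ^ (Curv2.genus k X - 1 - r)) =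
      φ S z * (O k hdim (P₀ (σ := σ) (hσ := hσ))) ^ (Curv2.genus k X - 1 - r) * ((D k hdim l / (O k hdim (P₀ (σ := σ) (hσ := hσ))) ^ r) * (O k hdim (P₀ (σ := σ) (hσ := hσ))) ^ r) from by ac_rfl, div_mul_cancel]

/-- The canonical point. -/
theorem φ_canonical {Kf : (PicF.XT (X ↘ Spec (CommRingCat.of k)) (B (k := k))).Modules} (n : ℕ)
    (hKf : Nonempty (Kf ≅ (Scheme.Modules.pullback (pullback.fst (X ↘ Spec (CommRingCat.of k)) (B (k := k)).hom)).obj
      (CohB1.tensorMod (Omega.sheaf (X ↘ Spec (CommRingCat.of k))) (CohB1.tensorPow (ClSub.idealMod σ.ker) n))))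
    (hT : (⊤ : ObjectProperty (Over (Spec (CommRingCat.of k)))) (B (k := k)))
    (hok : (ModFun.PicDeg (X ↘ Spec (CommRingCat.of k)) 0).ok (B (k := k)) Kf)
    {κ : B (k := k) ⟶ J} (hκ : ψ.app (B (k := k)) Kf hT hok = κ) :
    φ S κ = K k hdim / (O k hdim (P₀ (σ := σ) (hσ := hσ))) ^ n := by
  have h1 := pullCl_of_rel (X ↘ Spec (CommRingCat.of k)) (S.classifies.2 _ Kf hT hok)
  rw [hκ] at h1
  refine Subtype.ext (h1.trans ?_)
  obtain ⟨e⟩ := hKf
  rw [show PicF.cl Kf = PicF.pullCl (pullback.fst (X ↘ Spec (CommRingCat.of k)) (B (k := k)).hom)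
    (PicF.cl (Omega.sheaf (X ↘ Spec (CommRingCat.of k))) * PicF.cl (ClSub.idealMod σ.ker) ^ n) from by
    rw [← PicMul.cl_tensorPow, ← PicMul.cl_tensor]; exact PicMul.cl_eq_iff.2 ⟨e⟩]
  refine ((PicClLib.pullCl_comp _ _ _).trans ((congrArg (PicF.pullCl · _)
    (pullback.lift_fst _ _ _ : toXT (X ↘ Spec (CommRingCat.of k)) ≫ pullback.fst _ _ = 𝟙 X)).trans
      (PicClLib.pullCl_id _))).trans ?_
  have h2 : PicF.cl (ClSub.idealMod σ.ker) = (I k hdim (P₀ (σ := σ) (hσ := hσ))).1 :=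
    (cl_section (X ↘ Spec (CommRingCat.of k)) σ hσ).trans (pullCl_pt _ _)
  have h3 : K k hdim / (O k hdim (P₀ (σ := σ) (hσ := hσ))) ^ n = K k hdim * I k hdim (P₀ (σ := σ) (hσ := hσ)) ^ n := by
    rw [O, inv_pow, div_inv_eq_mul]
  rw [h3, h2]
  have h4 : ∀ m : ℕ, ((I k hdim (P₀ (σ := σ) (hσ := hσ))) ^ m).1 = (I k hdim (P₀ (σ := σ) (hσ := hσ))).1 ^ m := by
    intro m
    induction m with
    | zero => rw [pow_zero, pow_zero]; rfl
    | succ m ih => rw [pow_succ, pow_succ, ← ih]; rfl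
  rw [← h4]
  rfl

variable {κ : B (k := k) ⟶ J} (hκ : φ S κ = K k hdim / (O k hdim (P₀ (σ := σ) (hσ := hσ))) ^ (2 * Curv2.genus k X - 2))
include hκ

/-- `(W^{g-1}_a)^* = W^{g-1}_{a⁻¹}`. -/
theorem star_theta (hg : 1 ≤ Curv2.genus k X) (a : B (k := k) ⟶ J) :
    (Jac.transl J κ).left.base '' (((𝟙 J)⁻¹).left.base ''
        ((Jac.transl J a).left.base '' W j (Curv2.genus k X - 1))) =
      (Jac.transl J a⁻¹).left.base '' W j (Curv2.genus k X - 1) := by
  refine ext_closed S (isClosed_transl κ (isClosed_inv (isClosed_transl a (isClosed_W S _))))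
    (isClosed_transl a⁻¹ (isClosed_W S _)) fun z => ?_
  rw [imgJ_mem_transl, imgJ_mem_inv, mem_transl_W hdim S, mem_transl_W hdim S, map_inv, map_inv, map_mul, map_inv]
  obtain ⟨n, hn⟩ : ∃ n, Curv2.genus k X = n + 1 := ⟨Curv2.genus k X - 1, by omega⟩
  rw [show Curv2.genus k X - 1 = n by omega]
  have hkey : K k hdim / (φ S z / (φ S a)⁻¹ * (O k hdim (P₀ (σ := σ) (hσ := hσ))) ^ n) =
      (φ S z * (φ S κ)⁻¹)⁻¹ / φ S a * (O k hdim (P₀ (σ := σ) (hσ := hσ))) ^ n := by
    rw [hκ, show 2 * Curv2.genus k X - 2 = n + n by omega, pow_add]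
    exact alg_star _ _ _ _
  have h := riemann_roch k hdim (φ S z / (φ S a)⁻¹ * (O k hdim (P₀ (σ := σ) (hσ := hσ))) ^ n)
  rw [hkey, ← map_inv, dg_φ_div hdim S, map_inv] at h
  omega

/-- The intersection of `W^{r+1}_a` and `W^{g-1}_b`. -/
theorem inter_union (r : ℕ) (hr : r + 2 ≤ Curv2.genus k X) (a b x y : B (k := k) ⟶ J)
    (hx : imgJ x ∈ W j 1) (hy : imgJ y ∈ W j (Curv2.genus k X - 1 - r)) (hab : a * x = b * y)
    (hnot : ¬ (Jac.transl J a).left.base '' W j (r + 1) ⊆ (Jac.transl J b).left.base '' W j (Curv2.genus k X - 1)) :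
    ((Jac.transl J a).left.base '' W j (r + 1)) ∩ ((Jac.transl J b).left.base '' W j (Curv2.genus k X - 1)) =
      ((Jac.transl J (a * x)).left.base '' W j r) ∪
      (((Jac.transl J a).left.base '' W j (r + 1)) ∩ ((Jac.transl J κ).left.base '' (((𝟙 J)⁻¹).left.base ''
        ((Jac.transl J (y * a⁻¹)).left.base '' W j (Curv2.genus k X - 2))))) := by
  classical
  obtain ⟨t, ht⟩ : ∃ t, Curv2.genus k X = r + 2 + t := ⟨Curv2.genus k X - (r + 2), by omega⟩
  rw [mem_W_iff hdim S] at hx hy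
  obtain ⟨lx, hlx, hxl⟩ := (eff_iff k hdim (r := 1) (by rw [dg_mul k hdim, dg_φ hdim S, dg_O_pow hdim, zero_add])).1 hx
  obtain ⟨xp, rfl⟩ := List.length_eq_one_iff.1 hlx
  rw [pow_one, D_cons, D_nil, mul_one] at hxl
  obtain ⟨Y, -, hyl⟩ := (eff_iff k hdim (r := Curv2.genus k X - 1 - r)
    (by rw [dg_mul k hdim, dg_φ hdim S, dg_O_pow hdim, zero_add])).1 hy
  rw [show Curv2.genus k X - 1 - r = 1 + t by omega] at hyl
  have hab' : φ S b = φ S a * φ S x / φ S y := by
    rw [eq_div_iff_mul_eq', ← map_mul, ← map_mul, hab]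
  rw [subset_iff hdim S (r + 1) (by omega), show Curv2.genus k X - 1 - (r + 1) = t by omega] at hnot
  have hn : ¬ 1 ≤ H k (D k hdim Y / O k hdim xp) := by
    refine fun h => hnot (h.trans_eq (congrArg (H k) ?_))
    rw [← hyl, ← hxl, hab', pow_add, pow_one, div_div_eq_mul_div, mul_div_mul_left_eq_div]
    simp only [div_eq_mul_inv, mul_inv_rev]
    calc φ S y * ((O k hdim (P₀ (σ := σ) (hσ := hσ))) * (O k hdim (P₀ (σ := σ) (hσ := hσ))) ^ t) * (((O k hdim (P₀ (σ := σ) (hσ := hσ))))⁻¹ * (φ S x)⁻¹) = φ S y * (φ S x)⁻¹ * (O k hdim (P₀ (σ := σ) (hσ := hσ))) ^ t * ((O k hdim (P₀ (σ := σ) (hσ := hσ))) * ((O k hdim (P₀ (σ := σ) (hσ := hσ))))⁻¹) := by ac_rfl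
      _ = _ := by rw [mul_inv_cancel, mul_one]
  have hxY : xp ∉ Y := fun hm => hn (by
    have hD : D k hdim Y = O k hdim xp * D k hdim (Y.erase xp) := by
      rw [← D_cons]
      exact ((List.perm_cons_erase hm).map _).prod_eq
    rw [hD, mul_div_cancel_left]
    exact one_le_H_D k hdim _)
  refine ext_closed S ((isClosed_transl a (isClosed_W S _)).inter (isClosed_transl b (isClosed_W S _)))
    ((isClosed_transl _ (isClosed_W S _)).union ((isClosed_transl a (isClosed_W S _)).inter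
      (isClosed_transl κ (isClosed_inv (isClosed_transl _ (isClosed_W S _)))))) fun z => ?_
  simp only [Set.mem_inter_iff, Set.mem_union, imgJ_mem_transl κ, imgJ_mem_inv, mem_transl_W hdim S, map_inv,
    map_mul]
  -- the three classes
  let M := φ S z / φ S a * (O k hdim (P₀ (σ := σ) (hσ := hσ))) ^ (r + 1)
  let L := M * D k hdim Y
  have e2 : φ S z / φ S b * (O k hdim (P₀ (σ := σ) (hσ := hσ))) ^ (Curv2.genus k X - 1) = L / O k hdim xp := by
    rw [show Curv2.genus k X - 1 = r + 1 + t by omega]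
    simp only [L, M, ← hxl, ← hyl, hab', pow_add, pow_one]
    exact alg_e2 _ _ _ _ _ _ _
  have e1 : φ S z / (φ S a * φ S x) * (O k hdim (P₀ (σ := σ) (hσ := hσ))) ^ r = M / O k hdim xp := by
    simp only [M, ← hxl, pow_succ]
    exact alg_e1 _ _ _ _ _
  have e3 : (φ S z * (φ S κ)⁻¹)⁻¹ / (φ S y * (φ S a)⁻¹) * (O k hdim (P₀ (σ := σ) (hσ := hσ))) ^ (Curv2.genus k X - 2) = K k hdim / L := by
    rw [hκ, show Curv2.genus k X - 2 = r + t by omega,
      show 2 * Curv2.genus k X - 2 = (r + 1) + (1 + t) + (r + t) by omega]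
    simp only [L, M, ← hyl]
    rw [pow_add _ (r + 1 + (1 + t)) (r + t), pow_add _ (r + 1) (1 + t)]
    exact alg_e3 _ _ _ _ _ _ _
  have hdM : dg k M = ((r + 1 : ℕ) : ℤ) := dg_φ_div hdim S z a _
  have hdY : dg k (D k hdim Y) = ((1 + t : ℕ) : ℤ) := by
    rw [← hyl, dg_mul k hdim, dg_φ hdim S, dg_O_pow hdim, zero_add]
  have hdL : dg k L = (Curv2.genus k X : ℤ) := by
    rw [show dg k L = _ from dg_mul k hdim M (D k hdim Y), hdM, hdY, ht]
    push_cast
    ring
  have hRR := riemann_roch k hdim L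
  have hL1 := H_div_le k hdim L xp
  rw [e1, e2, e3]
  change (1 ≤ H k M ∧ 1 ≤ H k (L / O k hdim xp)) ↔
    (1 ≤ H k (M / O k hdim xp) ∨ 1 ≤ H k M ∧ 1 ≤ H k (K k hdim / L))
  constructor
  · rintro ⟨hM, hL⟩
    by_cases h2 : 2 ≤ H k L
    · exact Or.inr ⟨hM, by omega⟩
    · left
      have hb : H k (L / O k hdim xp) = H k L := by omega
      have h3 := base_list k hdim hb Y hxY
      rw [show L / D k hdim Y = M from mul_div_cancel_right M (D k hdim Y)] at h3
      omega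
  · rintro (hM | ⟨hM, hK⟩)
    · refine ⟨hM.trans (H_div_le k hdim M xp).1, hM.trans ?_⟩
      rw [show L / O k hdim xp = M / O k hdim xp * D k hdim Y from (div_mul_eq_mul_div _ _ _).symm]
      exact H_le_mul_D k hdim _ Y
    · exact ⟨hM, by omega⟩

end Groth.Agent.Torelli18
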