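import Groth.Agent.Torelli18.Jac
import Groth.Agent.PnCoh.PushNat
import Groth.Agent.PicTangent.JacDeg
import Groth.Agent.InvX.Tensor

/-!
# Uniqueness in Torelli's theorem
-/

set_option autoImplicit false
set_option linter.style.haveILetI false
set_option linter.unusedSectionVars false
set_option backward.isDefEq.respectTransparency false
set_option backward.isDefEq.respectTransparency.types false
set_option maxHeartbeats 1000000
set_option synthInstance.maxHeartbeats 400000

universe u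

open CategoryTheory CategoryTheory.Limits AlgebraicGeometry MonoidalCategory CartesianMonoidalCategory
open scoped CategoryTheory.MonObj

noncomputable section

namespace Groth.Agent.Torelli18

open Groth.Agent Groth.Agent.H23 Groth.Agent.H23.PicMul Groth.Agent.PicTangent Groth.Agent.PicTangent.JacDiff
open scoped Groth.Agent.H23.PicMul

attribute [local instance] PicMul.clMonoid

variable {k : Type u} [Field k] [IsAlgClosed k] {X X' : Scheme.{u}} (f : X ⟶ Spec (CommRingCat.of k))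
  (f' : X' ⟶ Spec (CommRingCat.of k)) [IsProper f] [IsProper f'] [SmoothOfRelativeDimension 1 f']
  [GeometricallyConnected f'] [IsIntegral X] [IsIntegral X']

/-- A point mapped by a morphism. -/
def imPt (α : Over.mk f ⟶ Over.mk f') (x : X) (hx : IsClosed ({x} : Set X)) :
    B (k := k) ⟶ Over.mk f' :=
  Over.homMk (pointOfClosedPoint f x hx ≫ α.left) (by
    show (pointOfClosedPoint f x hx ≫ α.left) ≫ f' = 𝟙 _
    rw [Category.assoc, show α.left ≫ f' = f from Over.w α, pointOfClosedPoint_comp])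

theorem img_imPt (α : Over.mk f ⟶ Over.mk f') (x : X) (hx : IsClosed ({x} : Set X)) :
    img f' (imPt f f' α x hx) = (show X ⟶ X' from α.left) x :=
  congrArg (show X ⟶ X' from α.left) (pointOfClosedPoint_apply f x hx _)

include f in
theorem exists_pair_closed (hdim : topologicalKrullDim X = 1) (φ : X → X') (hφ : Function.Injective φ) (a b : X') :
    ∃ x y : X, x ≠ y ∧ IsClosed ({x} : Set X) ∧ IsClosed ({y} : Set X) ∧
      φ x ≠ a ∧ φ x ≠ b ∧ φ y ≠ a ∧ φ y ≠ b := by
  classical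
  letI : X.Over (Spec (CommRingCat.of k)) := ⟨f⟩
  haveI : IsProper (X ↘ Spec (CommRingCat.of k)) := ‹IsProper f›
  obtain ⟨S, hS, hcl⟩ := CurveSection.exists_closed_finset k (X := X) hdim 4
  let T := S.filter fun x => ¬ (φ x = a ∨ φ x = b)
  have h2 : (S.filter fun x => φ x = a ∨ φ x = b).card ≤ 2 := by
    refine le_trans ?_ (Finset.card_le_two (a := a) (b := b))
    refine Finset.card_le_card_of_injOn φ (fun x hx => ?_) hφ.injOn
    rcases (Finset.mem_filter.1 hx).2 with h | h <;> simp [h]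
  have hc := Finset.card_filter_add_card_filter_not (s := S) (fun x => φ x = a ∨ φ x = b)
  change _ + T.card = _ at hc
  obtain ⟨x, hx, y, hy, hne⟩ := Finset.one_lt_card.1 (show 1 < T.card by omega)
  simp only [T, Finset.mem_filter, not_or] at hx hy
  exact ⟨x, y, hne, hcl x hx.1, hcl y hy.1, hx.2.1, hx.2.2, hy.2.1, hy.2.2⟩

theorem pcl_congr {p q : X'} (hp : IsClosed ({p} : Set X')) (hq : IsClosed ({q} : Set X')) (h : p = q) :
    pcl p hp = pcl q hq := by
  subst h; rfl

variable (σ' : Spec (CommRingCat.of k) ⟶ X') (hσ' : σ' ≫ f' = 𝟙 _)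
  {J : Over (Spec (CommRingCat.of k))} [GrpObj J] [IsCommMonObj J]
  {ψ : (ModFun.PicDeg f' 0).Hom ⊤ J} (hJ : Jac.IsJacobian f' ⊤ J ψ)
  {j : Over.mk f' ⟶ J} (hj : Jac.IsAbelJacobiAt f' σ' ψ j)
  (hdim : topologicalKrullDim X = 1) (hdim' : topologicalKrullDim X' = 1)

include hσ' hJ hj hdim hdim'

/-- Two isomorphisms onto a curve of genus at least two differing by a translation in the Jacobian coincide. -/
theorem eq_of_translate (hg : letI : X'.Over (Spec (CommRingCat.of k)) := ⟨f'⟩; 2 ≤ Curv2.genus k X')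
    (α₁ α₂ : Over.mk f ⟶ Over.mk f') (h₁ : Function.Injective (show X ⟶ X' from α₁.left)) (h₂ : Function.Injective (show X ⟶ X' from α₂.left))
    (h : ∀ (x y : X) (hx : IsClosed ({x} : Set X)) (hy : IsClosed ({y} : Set X)),
      (imPt f f' α₁ x hx ≫ j) * (imPt f f' α₂ y hy ≫ j) =
        (imPt f f' α₁ y hy ≫ j) * (imPt f f' α₂ x hx ≫ j)) : α₁ = α₂ := by
  letI : X'.Over (Spec (CommRingCat.of k)) := ⟨f'⟩
  haveI : Smooth f' := SmoothOfRelativeDimension.smooth 1 f'
  haveI : IsProper (X' ↘ Spec (CommRingCat.of k)) := ‹IsProper f'›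
  haveI : Smooth (X' ↘ Spec (CommRingCat.of k)) := ‹Smooth f'›
  have key : ∀ (x y : X) (hx : IsClosed ({x} : Set X)) (hy : IsClosed ({y} : Set X)),
      pcl (img f' (imPt f f' α₁ x hx)) (isClosed_img f' _) * pcl (img f' (imPt f f' α₂ y hy)) (isClosed_img f' _) =
        pcl (img f' (imPt f f' α₁ y hy)) (isClosed_img f' _) * pcl (img f' (imPt f f' α₂ x hx)) (isClosed_img f' _) :=
    fun x y hx hy => pcl_eq f' σ' hσ' hJ hj (h x y hx hy)
  by_contra hne
  let a₁ : X ⟶ X' := α₁.left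
  let a₂ : X ⟶ X' := α₂.left
  obtain ⟨z, hz, hzne⟩ : ∃ z : X, IsClosed ({z} : Set X) ∧ a₁ z ≠ a₂ z := by
    by_contra hcon
    push Not at hcon
    haveI : LocallyOfFiniteType (a₁ ≫ f') := by
      rw [show a₁ ≫ f' = f from Over.w α₁]; infer_instance
    exact hne (Over.OverMorphism.ext (ext_of_apply_eq (f := a₁) (g := a₂) f' Set.univ
      isOpen_univ.isLocallyClosed dense_univ
      (fun x _ hx => hcon x hx) ((Over.w α₁).trans (Over.w α₂).symm)))
  obtain ⟨x, y, hxy, hx, hy, hxa, hxb, hya, hyb⟩ :=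
    exists_pair_closed f hdim a₁ h₁ (a₂ z) (a₁ z)
  -- the pencils attached to the two points
  have pencil : ∀ (w : X) (hw : IsClosed ({w} : Set X)), a₁ w ≠ a₂ z → a₁ w ≠ a₁ z →
      ∃ L : X'.Modules, PicF.IsInvertible L ∧ Curv2.deg k X' L 1 = 2 ∧ 2 ≤ h0 k L ∧
        PicF.cl L * pcl (img f' (imPt f f' α₁ w hw)) (isClosed_img f' _) *
          pcl (img f' (imPt f f' α₂ z hz)) (isClosed_img f' _) = 1 := by
    intro w hw hwa hwb
    let p := imPt f f' α₁ w hw
    let q := imPt f f' α₂ z hz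
    obtain ⟨L, hL, hLpq⟩ := EllLaw.cl_inverse (H23.PicMul.isInvertible_tensor
      (CurvePoint.isInvertible_ptMod _ (isClosed_img f' p) k hdim')
      (CurvePoint.isInvertible_ptMod _ (isClosed_img f' q) k hdim'))
    rw [PicMul.cl_tensor, mul_comm, ← mul_assoc] at hLpq
    obtain ⟨hd, e1⟩ := of_inverse_two k hdim' hL (isClosed_img f' p) (isClosed_img f' q) hLpq
    obtain ⟨-, e2⟩ := of_inverse_two k hdim' hL (isClosed_img f' q) (isClosed_img f' p)
      (by rw [mul_right_comm]; exact hLpq)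
    obtain ⟨-, e3⟩ := of_inverse_two k hdim' hL (isClosed_img f' (imPt f f' α₁ z hz))
      (isClosed_img f' (imPt f f' α₂ w hw)) (by rw [mul_assoc, ← key w z hw hz, ← mul_assoc]; exact hLpq)
    refine ⟨L, hL, hd, ?_, hLpq⟩
    refine two_le_of_three k hdim' hL hd _ _ _ ?_ ?_ ?_ e1 e2 e3
    · rw [img_imPt, img_imPt]; exact hwa.symm
    · rw [img_imPt, img_imPt]; exact hwb.symm
    · rw [img_imPt, img_imPt]; exact hzne
  obtain ⟨L, hL, hLd, hL2, hLx⟩ := pencil x hx hxa hxb
  obtain ⟨L', hL', hLd', hL2', hLy⟩ := pencil y hy hya hyb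
  have e := PicMul.cl_eq_iff.2 (g12_unique k hdim' hg hL hL' hLd hLd' hL2 hL2')
  rw [← e] at hLy
  have hxy' : pcl (img f' (imPt f f' α₁ x hx)) (isClosed_img f' _) =
      pcl (img f' (imPt f f' α₁ y hy)) (isClosed_img f' _) := by
    let a := pcl (img f' (imPt f f' α₂ z hz)) (isClosed_img f' (imPt f f' α₂ z hz))
    calc pcl (img f' (imPt f f' α₁ x hx)) (isClosed_img f' _)
        = pcl (img f' (imPt f f' α₁ x hx)) (isClosed_img f' _) *
            (PicF.cl L * pcl (img f' (imPt f f' α₁ y hy)) (isClosed_img f' _) * a) := by rw [hLy, mul_one]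
      _ = (PicF.cl L * pcl (img f' (imPt f f' α₁ x hx)) (isClosed_img f' _) * a) *
            pcl (img f' (imPt f f' α₁ y hy)) (isClosed_img f' _) := by ac_rfl
      _ = _ := by rw [hLx, one_mul]
  have hxy2 := eq_of_pcl k hdim' (by omega) _ _ hxy'
  rw [img_imPt, img_imPt] at hxy2
  exact hxy (h₁ hxy2)

/-- If the sums of the images of a point are all equal, there is a pencil of degree two. -/
theorem exists_pencil (hg : letI : X'.Over (Spec (CommRingCat.of k)) := ⟨f'⟩; 1 ≤ Curv2.genus k X')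
    (α₁ α₂ : Over.mk f ⟶ Over.mk f') (h₁ : Function.Injective (show X ⟶ X' from α₁.left))
    (h : ∀ (x y : X) (hx : IsClosed ({x} : Set X)) (hy : IsClosed ({y} : Set X)),
      (imPt f f' α₁ x hx ≫ j) * (imPt f f' α₂ x hx ≫ j) =
        (imPt f f' α₁ y hy ≫ j) * (imPt f f' α₂ y hy ≫ j)) :
    letI : X'.Over (Spec (CommRingCat.of k)) := ⟨f'⟩
    ∃ L : X'.Modules, PicF.IsInvertible L ∧ Curv2.deg k X' L 1 = 2 ∧ h0 k L = 2 := by
  letI : X'.Over (Spec (CommRingCat.of k)) := ⟨f'⟩
  haveI : Smooth f' := SmoothOfRelativeDimension.smooth 1 f'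
  haveI : IsProper (X' ↘ Spec (CommRingCat.of k)) := ‹IsProper f'›
  haveI : Smooth (X' ↘ Spec (CommRingCat.of k)) := ‹Smooth f'›
  letI : X.Over (Spec (CommRingCat.of k)) := ⟨f⟩
  haveI : IsProper (X ↘ Spec (CommRingCat.of k)) := ‹IsProper f›
  obtain ⟨S, hS, hcl⟩ := CurveSection.exists_closed_finset k (X := X) hdim 3
  classical
  obtain ⟨x, y, z, hxy, hxz, hyz, hSe⟩ := Finset.card_eq_three.1 hS
  have hx := hcl x (by simp [hSe])
  have hy := hcl y (by simp [hSe])
  have hz := hcl z (by simp [hSe])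
  obtain ⟨L, hL, hLpq⟩ := EllLaw.cl_inverse (H23.PicMul.isInvertible_tensor
    (CurvePoint.isInvertible_ptMod _ (isClosed_img f' (imPt f f' α₁ x hx)) k hdim')
    (CurvePoint.isInvertible_ptMod _ (isClosed_img f' (imPt f f' α₂ x hx)) k hdim'))
  rw [PicMul.cl_tensor, mul_comm, ← mul_assoc] at hLpq
  have at_ : ∀ (w : X) (hw : IsClosed ({w} : Set X)), Curv2.deg k X' L 1 = 2 ∧
      1 ≤ h0 k (tw L (img f' (imPt f f' α₁ w hw)) (isClosed_img f' _)) := fun w hw =>
    of_inverse_two k hdim' hL _ (isClosed_img f' (imPt f f' α₂ w hw)) (by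
      rw [mul_assoc, ← pcl_eq f' σ' hσ' hJ hj (h x w hx hw), ← mul_assoc]; exact hLpq)
  have hd := (at_ x hx).1
  refine ⟨L, hL, hd, le_antisymm (h0_le_two k hdim' hg hL hd)
    (two_le_of_three k hdim' hL hd _ _ _ ?_ ?_ ?_ (at_ x hx).2 (at_ y hy).2 (at_ z hz).2)⟩
  · rw [img_imPt, img_imPt]; exact fun e => hxy (h₁ e).symm
  · rw [img_imPt, img_imPt]; exact fun e => hxz (h₁ e).symm
  · rw [img_imPt, img_imPt]; exact fun e => hyz (h₁ e).symm

end Groth.Agent.Torelli18

namespace Groth.Agent.Torelli18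

section Iso

variable {k : Type u} [Field k] {X X' : Scheme.{u}} [X.Over (Spec (CommRingCat.of k))]
  [X'.Over (Spec (CommRingCat.of k))] (α : X ⟶ X') [IsIso α]
  (hα : α ≫ (X' ↘ Spec (CommRingCat.of k)) = X ↘ Spec (CommRingCat.of k))

include hα in
/-- Cohomology along an isomorphism. -/
theorem finrank_HH_pullback {H : X'.Modules} (hH : Coh.IsQCoh H) (n : ℕ) :
    Module.finrank k (Coh.HH X ((Scheme.Modules.pullback α).obj H) n) = Module.finrank k (Coh.HH X' H n) := by
  rw [← (CurveCohLib.hhEquiv (k := k) ((Scheme.Modules.restrictFunctorIsoPullback α).app H) n).finrank_eq]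
  haveI : IsIso ((Scheme.Modules.restrictAdjunction α).unit.app H) := by
    refine Scheme.Modules.Hom.isIso_iff_isIso_app.2 fun W => ?_
    rw [Scheme.Modules.restrictAdjunction_unit_app_app]
    have e : α ''ᵁ (α ⁻¹ᵁ W) = W := by
      rw [α.image_preimage_eq_opensRange_inf, Scheme.Hom.opensRange_of_isIso, top_inf_eq]
    haveI : IsIso (homOfLE e.le) := ⟨homOfLE e.ge, rfl, rfl⟩
    infer_instance
  obtain ⟨a⟩ := PnCoh.exists_linearEquiv_push k α hα (QCoh.isQCoh_restrict α hH) n
  exact a.finrank_eq.trans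
    (CurveCohLib.hhEquiv (k := k) (asIso ((Scheme.Modules.restrictAdjunction α).unit.app H)) n).finrank_eq.symm

include hα in
/-- Degrees along an isomorphism. -/
theorem deg_pullback [IsProper (X ↘ Spec (CommRingCat.of k))] {H : X'.Modules} (hH : Coh.IsQCoh H) (r : ℕ) :
    Curv2.deg k X ((Scheme.Modules.pullback α).obj H) r = Curv2.deg k X' H r := by
  have he : ∀ {M : X'.Modules}, Coh.IsQCoh M →
      Curv2.euler k X ((Scheme.Modules.pullback α).obj M) = Curv2.euler k X' M := fun hM =>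
    finsum_congr fun n => by rw [finrank_HH_pullback α hα hM n]
  obtain ⟨e⟩ := PicClLib.nonempty_pullback_structureModule α
  unfold Curv2.deg
  rw [he hH, ← Euler.euler_congr k e, he (PnCoh.isQCoh_structureModule X')]

end Iso

end Groth.Agent.Torelli18

namespace Groth.Agent.Torelli18

section Eval

variable {k : Type u} [Field k] [IsAlgClosed k] {C C' : Scheme.{u}} {f : C ⟶ Spec (CommRingCat.of k)}
  {f' : C' ⟶ Spec (CommRingCat.of k)} [IsProper f] [SmoothOfRelativeDimension 1 f]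
  {J J' : Over (Spec (CommRingCat.of k))} [GrpObj J'] (φ : Over.mk f ⟶ J') (α : Over.mk f ⟶ Over.mk f')
  (j' : Over.mk f' ⟶ J') (s : ℤ) (c : 𝟙_ (Over (Spec (CommRingCat.of k))) ⟶ J')

/-- A relation between morphisms, at a point. -/
theorem eval_rel (h : α ≫ j' = φ ^ s * (toUnit (Over.mk f) ≫ c)) (x : C) (hx : IsClosed ({x} : Set C)) :
    imPt f f' α x hx ≫ j' = (ptAt f x hx ≫ φ) ^ s * (toUnit (B (k := k)) ≫ c) := by
  have e : imPt f f' α x hx = ptAt f x hx ≫ α := Over.OverMorphism.ext rfl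
  rw [e, Category.assoc, h]
  refine (map_mul (PicCurve.preHom (G := J') (ptAt f x hx)) _ _).trans ?_
  rw [map_zpow]
  show (ptAt f x hx ≫ φ) ^ s * (ptAt f x hx ≫ toUnit (Over.mk f) ≫ c) = _
  rw [← Category.assoc (ptAt f x hx) (toUnit (Over.mk f)) c,
    toUnit_unique (ptAt f x hx ≫ toUnit (Over.mk f)) (toUnit (B (k := k)))]

end Eval

end Groth.Agent.Torelli18
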