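import Groth.Agent.Torelli18.Points
import Groth.Agent.H23.TrivBasic
import Groth.Agent.CurveTwistBC.Basic
import Groth.Agent.CurveFF.Canonical

/-!
# Divisor classes on a curve: effective classes, Riemann–Roch
-/

set_option autoImplicit false
set_option linter.style.haveILetI false
set_option linter.unusedSectionVars false
set_option backward.isDefEq.respectTransparency false
set_option backward.isDefEq.respectTransparency.types false
set_option maxHeartbeats 1000000
set_option synthInstance.maxHeartbeats 200000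

universe u

open CategoryTheory CategoryTheory.Limits AlgebraicGeometry TopologicalSpace

noncomputable section

namespace Groth.Agent.Torelli18

open Groth.Agent Groth.Agent.CurvePoint Groth.Agent.CurveBundle Groth.Agent.CurveSlope Groth.Agent.CurveStable
open Groth.Agent.H23 Groth.Agent.H23.PicMul
open scoped Groth.Agent.H23.PicMul

attribute [local instance] PicMul.clMonoid PicMul.law

/-- The invertible classes. -/
abbrev G (X : Scheme.{u}) := PicLoc.PicSet X

/-- The closed points. -/
abbrev Pt (X : Scheme.{u}) := {x : X // IsClosed ({x} : Set X)}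

variable {X : Scheme.{u}}

/-- The class of an invertible module. -/
def mk {L : X.Modules} (hL : PicF.IsInvertible L) : G X := ⟨PicF.cl L, L, rfl, hL⟩

theorem exists_mk (c : G X) : ∃ (L : X.Modules) (hL : PicF.IsInvertible L), c = mk hL := by
  obtain ⟨c, L, rfl, hL⟩ := c
  exact ⟨L, hL, rfl⟩

variable (k : Type u) [Field k] [IsAlgClosed k] [X.Over (Spec (CommRingCat.of k))]
  [IsIntegral X] [IsProper (X ↘ Spec (CommRingCat.of k))] [Smooth (X ↘ Spec (CommRingCat.of k))]

/-- The dimension of the sections of a class. -/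
def H (c : G X) : ℕ :=
  Quot.lift (fun L => h0 k L) (fun _ _ ⟨e⟩ => (CurveCohLib.hhEquiv (k := k) e 0).finrank_eq) c.1

/-- The degree of a class. -/
def dg (c : G X) : ℤ :=
  Quot.lift (fun L => Curv2.deg k X L 1) (fun _ _ ⟨e⟩ => CurveRR.deg_congr k e 1) c.1

theorem H_mk {L : X.Modules} (hL : PicF.IsInvertible L) : H k (mk hL) = h0 k L := rfl

theorem dg_mk {L : X.Modules} (hL : PicF.IsInvertible L) : dg k (mk hL) = Curv2.deg k X L 1 := rfl

theorem mk_mul {L M : X.Modules} (hL : PicF.IsInvertible L) (hM : PicF.IsInvertible M) :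
    mk hL * mk hM = mk (PicMul.isInvertible_tensor hL hM) := rfl

theorem H_one : H k (1 : G X) = 1 := CurveCohLib.Clifford.finrank_h0_structure k (X := X)

theorem dg_one : dg k (1 : G X) = 0 := CurveDeg.deg_structureModule (k := k) (X := X)

variable (hdim : topologicalKrullDim X = 1)
include k hdim

theorem dg_mul (c d : G X) : dg k (c * d) = dg k c + dg k d := by
  obtain ⟨L, hL, rfl⟩ := exists_mk c
  obtain ⟨M, hM, rfl⟩ := exists_mk d
  exact CurveRR.deg_tensor k hdim hL hM

theorem dg_inv (c : G X) : dg k c⁻¹ = -dg k c := by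
  have := dg_mul k hdim c c⁻¹
  rw [mul_inv_cancel, dg_one] at this
  omega

/-- The ideal class of a point. -/
def I (p : Pt X) : G X := mk (isInvertible_ptMod p.1 p.2 k hdim)

/-- The class of a point. -/
def O (p : Pt X) : G X := (I k hdim p)⁻¹

/-- The class of an effective divisor. -/
def D (l : List (Pt X)) : G X := (l.map (O k hdim)).prod

theorem D_nil : D k hdim ([] : List (Pt X)) = 1 := rfl

theorem D_cons (p : Pt X) (l : List (Pt X)) : D k hdim (p :: l) = O k hdim p * D k hdim l := rfl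

theorem D_append (l l' : List (Pt X)) : D k hdim (l ++ l') = D k hdim l * D k hdim l' := by
  rw [D, List.map_append, List.prod_append]
  rfl

theorem dg_O (p : Pt X) : dg k (O k hdim p) = 1 := by
  rw [O, dg_inv k hdim, I, dg_mk, deg_ptMod p.1 p.2 k]
  rfl

theorem dg_D (l : List (Pt X)) : dg k (D k hdim l) = l.length := by
  induction l with
  | nil => exact dg_one k
  | cons p l ih => rw [D_cons, dg_mul k hdim, dg_O, ih, List.length_cons]; push_cast; ring

theorem dg_div_O (c : G X) (p : Pt X) : dg k (c / O k hdim p) = dg k c - 1 := by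
  rw [div_eq_mul_inv, dg_mul k hdim, dg_inv k hdim, dg_O]
  ring

theorem div_O {L : X.Modules} (hL : PicF.IsInvertible L) (p : Pt X) :
    mk hL / O k hdim p = mk (isInvertible_tw k hdim hL p.1 p.2) := by
  rw [O, div_inv_eq_mul]
  rfl

theorem dg_nonneg {c : G X} (h : 1 ≤ H k c) : 0 ≤ dg k c := by
  obtain ⟨L, hL, rfl⟩ := exists_mk c
  exact deg_nonneg k hdim hL h

theorem eq_one_of_effective {c : G X} (h : 1 ≤ H k c) (hd : dg k c = 0) : c = 1 := by
  obtain ⟨L, hL, rfl⟩ := exists_mk c
  rw [dg_mk] at hd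
  rw [H_mk] at h
  obtain ⟨s, hs⟩ := CurveRR.exists_hom_ne_zero k (P := L) (by show h0 k L ≠ 0; omega)
  haveI := (CurveDeg.deg_le_and_isIso k hdim.le InvX.isInvertible_structureModule hL s hs).2
    (by rw [CurveDeg.deg_structureModule, hd])
  exact Subtype.ext (PicMul.cl_eq_iff.2 ⟨(asIso s).symm⟩)

theorem H_div_le (c : G X) (p : Pt X) : H k (c / O k hdim p) ≤ H k c ∧ H k c ≤ H k (c / O k hdim p) + 1 := by
  obtain ⟨L, hL, rfl⟩ := exists_mk c
  rw [div_O k hdim hL p, H_mk, H_mk]
  refine ⟨h0_tw_le k hdim hL p.1 p.2, ?_⟩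
  exact (finrank_twist p.1 p.2 k (InvEnd.isFinLocFreeOfRank_one hL)).1

theorem H_le_mul_D (c : G X) (l : List (Pt X)) : H k c ≤ H k (c * D k hdim l) := by
  induction l generalizing c with
  | nil => rw [D_nil, mul_one]
  | cons p l ih =>
    have h := (H_div_le k hdim (c * O k hdim p) p).1
    rw [mul_div_cancel_right] at h
    refine h.trans ((ih (c * O k hdim p)).trans (le_of_eq ?_))
    rw [D_cons, mul_assoc]

theorem one_le_H_D (l : List (Pt X)) : 1 ≤ H k (D k hdim l) := by
  have h := H_le_mul_D k hdim 1 l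
  rwa [one_mul, H_one] at h

/-- A base point stays one after removing another point. -/
theorem base_stays {c : G X} {x p : Pt X} (hne : x ≠ p) (h : H k (c / O k hdim x) = H k c) :
    H k (c / O k hdim p / O k hdim x) = H k (c / O k hdim p) := by
  obtain ⟨L, hL, rfl⟩ := exists_mk c
  rw [div_O k hdim hL x, H_mk, H_mk] at h
  rw [div_O k hdim hL p, div_O k hdim (isInvertible_tw k hdim hL p.1 p.2) x, H_mk, H_mk]
  exact base_twist k hdim hL p.2 x.2 (fun e => hne (Subtype.ext e)) h

theorem base_list {c : G X} {x : Pt X} (h : H k (c / O k hdim x) = H k c) :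
    ∀ (l : List (Pt X)), x ∉ l → H k (c / D k hdim l / O k hdim x) = H k (c / D k hdim l) := by
  intro l
  induction l generalizing c with
  | nil => intro _; rw [D_nil, div_one]; exact h
  | cons p l ih =>
    intro hx
    obtain ⟨hxp, hxl⟩ := not_or.1 (fun e => hx (List.mem_cons.2 e))
    have := ih (base_stays k hdim hxp h) hxl
    rwa [div_div c (O k hdim p) (D k hdim l), ← D_cons] at this

theorem exists_closed_in (U : X.Opens) {x : X} (hx : x ∈ U) : ∃ p : Pt X, p.1 ∈ U := by
  haveI : JacobsonSpace X := LocallyOfFiniteType.jacobsonSpace (X ↘ Spec (CommRingCat.of k))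
  obtain ⟨p, hp, hpc⟩ := nonempty_inter_closedPoints (Z := (U : Set X)) ⟨x, hx⟩ U.2.isLocallyClosed
  exact ⟨⟨p, hpc⟩, hp⟩

/-- Some point lowers the sections of an effective class. -/
theorem exists_drop {c : G X} (h : 1 ≤ H k c) : ∃ p : Pt X, H k (c / O k hdim p) + 1 = H k c := by
  obtain ⟨L, hL, rfl⟩ := exists_mk c
  rw [H_mk] at h
  obtain ⟨s, hs⟩ := CurveRR.exists_hom_ne_zero k (P := L) (by show h0 k L ≠ 0; omega)
  obtain ⟨z, hz⟩ := CurveTwistBC.exists_mem_genLocus_of_ne_zero hL hs
  obtain ⟨p, hp⟩ := exists_closed_in k hdim _ hz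
  refine ⟨p, ?_⟩
  rw [div_O k hdim hL p, H_mk, H_mk]
  exact (CurvePts22.finrank_twist_rat k hdim hL (hp := p.2) (euler_quot p.1 p.2 k)).1 s hp

/-- An effective class of positive degree contains a point. -/
theorem exists_point {c : G X} (h : 1 ≤ H k c) (hd : 1 ≤ dg k c) : ∃ p : Pt X, 1 ≤ H k (c / O k hdim p) := by
  obtain ⟨L, hL, rfl⟩ := exists_mk c
  rw [H_mk] at h
  rw [dg_mk] at hd
  obtain ⟨s, hs⟩ := CurveRR.exists_hom_ne_zero k (P := L) (by show h0 k L ≠ 0; omega)
  obtain ⟨z, hz⟩ : ∃ z, z ∉ CohB1.genLocus L s := by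
    by_contra hall
    push Not at hall
    have htop : TrivBasic.locus (InvX.one s) = ⊤ := top_le_iff.1 fun x _ => by
      obtain ⟨U, hxU, hU⟩ := InvX.mem_genLocus (hall x)
      exact TrivBasic.mem_locus_iff.2 ⟨U, hxU, hU⟩
    obtain ⟨e⟩ := TrivBasic.triv_of_frame (TrivBasic.locus_eq_top_iff.1 htop)
    rw [CurveRR.deg_congr k e 1, CurveDeg.deg_structureModule] at hd
    omega
  haveI : JacobsonSpace X := LocallyOfFiniteType.jacobsonSpace (X ↘ Spec (CommRingCat.of k))
  obtain ⟨p, hp, hpc⟩ := nonempty_inter_closedPoints (Z := ((CohB1.genLocus L s : Set X)ᶜ)) ⟨z, hz⟩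
    (CohB1.genLocus L s).2.isClosed_compl.isLocallyClosed
  refine ⟨⟨p, hpc⟩, ?_⟩
  rw [div_O k hdim hL ⟨p, hpc⟩, H_mk]
  have hLf := isFinLocFree_of_rank (InvEnd.isFinLocFreeOfRank_one hL)
  let u : (DCoh.tensorBi.obj L).obj (Coh.structureModule X) ≅ L := KFlatLib.tensorUnitIso L
  have hS := shortExact_of_iso_mid _ _ _ (CurveTensor.shortExact_tensor hLf _ _ _ (shortExact_pt p hpc)) u
  haveI := hS.mono_f
  have hsq := CurvePts22.comp_toSubscheme_eq_zero hL p hpc s hp
  let t := hS.exact.lift s hsq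
  have ht : t ≠ 0 := fun e => hs (by rw [← hS.exact.lift_f s hsq]; exact (congrArg (· ≫ _) e).trans zero_comp)
  haveI := CurveCohLib.isNoetherian_of_proper (k := k) (X := X)
  haveI := CurveCohLib.finite_HH (k := k) (CurveDeg.isCoh_of_isInvertible (isInvertible_tw k hdim hL p hpc)) 0
  haveI : Nontrivial (Coh.HH X (tw L p hpc) 0) :=
    ⟨RegEpi.evalOneLin k _ t, RegEpi.evalOneLin k _ 0, fun e => ht ((RegEpi.evalOneLin_bijective k _).1 e)⟩
  exact Module.finrank_pos

/-- Effective classes are the classes of effective divisors. -/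
theorem eff_iff {c : G X} {r : ℕ} (hd : dg k c = r) :
    1 ≤ H k c ↔ ∃ l : List (Pt X), l.length = r ∧ c = D k hdim l := by
  refine ⟨fun h => ?_, fun ⟨l, _, e⟩ => e ▸ one_le_H_D k hdim l⟩
  induction r generalizing c with
  | zero => exact ⟨[], rfl, eq_one_of_effective k hdim h (by omega)⟩
  | succ r ih =>
    obtain ⟨p, hp⟩ := exists_point k hdim h (by omega)
    obtain ⟨l, hl, e⟩ := ih (c := c / O k hdim p) (by rw [dg_div_O k hdim, hd]; push_cast; ring) hp
    exact ⟨p :: l, by rw [List.length_cons, hl], by rw [D_cons, ← e, mul_div_cancel]⟩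

/-- The canonical class. -/
def K : G X := mk (CurveFF.isInvertible_Ωm k X hdim)

theorem dg_K : dg k (K k hdim) = 2 * (Curv2.genus k X : ℤ) - 2 := (CurveFF.canonical_invariants k X hdim).2

theorem riemann_roch (c : G X) :
    (H k c : ℤ) - H k (K k hdim / c) = dg k c + 1 - Curv2.genus k X := by
  obtain ⟨L, hL, rfl⟩ := exists_mk c
  obtain ⟨M, hM, ⟨e⟩⟩ := PicInv.exists_inverse hL
  have hi : (mk hL)⁻¹ = mk hM := inv_eq_of_mul_eq_one_right (Subtype.ext (PicMul.cl_eq_iff.2 ⟨e⟩))
  have h := CurveFF.riemann_roch k hdim hL (D := M) e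
  rw [div_eq_mul_inv, hi]
  exact h

/-- A class without sections stays so after adding suitable points. -/
theorem exists_nonbase {c : G X} (h : H k c = 0) :
    ∀ r : ℕ, dg k c + r ≤ (Curv2.genus k X : ℤ) - 1 → ∃ l : List (Pt X), l.length = r ∧ H k (c * D k hdim l) = 0 := by
  intro r
  induction r with
  | zero => exact fun _ => ⟨[], rfl, by rw [D_nil, mul_one]; exact h⟩
  | succ r ih =>
    intro hr
    push_cast at hr
    obtain ⟨l, hl, h0⟩ := ih (by omega)
    have h1 := riemann_roch k hdim (c * D k hdim l)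
    have hd : dg k (c * D k hdim l) = dg k c + r := by rw [dg_mul k hdim, dg_D, hl]
    obtain ⟨p, hp⟩ := exists_drop k hdim (c := K k hdim / (c * D k hdim l)) (by omega)
    refine ⟨p :: l, by rw [List.length_cons, hl], ?_⟩
    have h2 := riemann_roch k hdim (c * D k hdim (p :: l))
    have he : c * D k hdim (p :: l) = c * D k hdim l * O k hdim p := by
      rw [D_cons, mul_assoc, mul_comm (D k hdim l)]
    rw [he] at h2 ⊢
    rw [← div_div, dg_mul k hdim, dg_O] at h2
    omega

end Groth.Agent.Torelli18
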