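import Groth.Agent.Torelli18.Points
import Groth.Agent.PicCurve.JacData
import Groth.Agent.PicCurve.Albanese
import Groth.Agent.PicCurve.AbelPts
import Groth.Agent.H28.Hyp.Cover
import Mathlib.AlgebraicGeometry.AlgClosed.Basic

/-!
# Relations between points of the Jacobian as relations between points of the curve
-/

set_option autoImplicit false
set_option linter.style.haveILetI false
set_option linter.unusedSectionVars false
set_option backward.isDefEq.respectTransparency false
set_option backward.isDefEq.respectTransparency.types false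
set_option maxHeartbeats 1000000
set_option synthInstance.maxHeartbeats 400000

universe u

open CategoryTheory CategoryTheory.Limits AlgebraicGeometry MonoidalCategory CartesianMonoidalCategory
open scoped CategoryTheory.MonObj

noncomputable section

namespace Groth.Agent.Torelli18

open Groth.Agent Groth.Agent.H23 Groth.Agent.H23.PicMul Groth.Agent.EllLaw Groth.Agent.PicCurve
  Groth.Agent.PicTangent Groth.Agent.PicTangent.JacDiff Groth.Agent.Pic13Lib
open scoped Groth.Agent.H23.PicMul

attribute [local instance] PicMul.clMonoid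

variable {k : Type u} [Field k] [IsAlgClosed k] {X : Scheme.{u}} (f : X ⟶ Spec (CommRingCat.of k)) [IsProper f]
  [SmoothOfRelativeDimension 1 f] [GeometricallyConnected f] [IsIntegral X]
  (σ : Spec (CommRingCat.of k) ⟶ X) (hσ : σ ≫ f = 𝟙 _)

/-- The base. -/
abbrev B : Over (Spec (CommRingCat.of k)) := Over.mk (𝟙 (Spec (CommRingCat.of k)))

/-- A closed point as a point of the curve over the field. -/
def ptAt (x : X) (hx : IsClosed ({x} : Set X)) : B (k := k) ⟶ Over.mk f :=
  haveI : Smooth f := SmoothOfRelativeDimension.smooth 1 f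
  Over.homMk (pointOfClosedPoint f x hx) (pointOfClosedPoint_comp f x hx)

/-- The image of a point. -/
def img (a : B (k := k) ⟶ Over.mk f) : X := a.left (IsLocalRing.closedPoint k)

theorem isClosed_img (a : B (k := k) ⟶ Over.mk f) : IsClosed ({img f a} : Set X) := by
  haveI : Smooth f := SmoothOfRelativeDimension.smooth 1 f
  exact (pointEquivClosedPoint f ⟨a.left, Over.w a⟩).2

theorem pullCl_pt (a : B (k := k) ⟶ Over.mk f) :
    PicF.pullCl (toXT f) (pt f B a) = pcl (img f a) (isClosed_img f a) := by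
  letI : X.Over (Spec (CommRingCat.of k)) := ⟨f⟩
  haveI : Smooth f := SmoothOfRelativeDimension.smooth 1 f
  haveI : IsProper (X ↘ Spec (CommRingCat.of k)) := ‹IsProper f›
  haveI : Smooth (X ↘ Spec (CommRingCat.of k)) := ‹Smooth f›
  haveI : ConnectedSpace ↥X := inferInstance
  have ha : cst f a.left (Over.w a) B = a := Over.OverMorphism.ext (Category.id_comp _)
  have h := cl_section f a.left (Over.w a)
  rw [show cst f a.left (Over.w a) (Over.mk (𝟙 _)) = a from ha] at h
  rw [← h]
  exact congrArg (fun I => PicF.cl (ClSub.idealMod I)) (H28.Hyp.ker_point k X a.left (Over.w a))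

theorem pullCl_of_rel {c c' : PicF.Cl (PicF.XT f (B (k := k)))} (h : Rel f B c c') :
    PicF.pullCl (toXT f) c = PicF.pullCl (toXT f) c' := by
  obtain ⟨M, hM, rfl⟩ := h
  haveI : Subsingleton ↥(Spec (CommRingCat.of k)) := inferInstanceAs (Subsingleton (PrimeSpectrum k))
  haveI : Nonempty ↥(Spec (CommRingCat.of k)) := inferInstanceAs (Nonempty (PrimeSpectrum k))
  haveI : Subsingleton ↥(B (k := k)).left := ‹Subsingleton ↥(Spec (CommRingCat.of k))›
  haveI : Nonempty ↥(B (k := k)).left := ‹Nonempty ↥(Spec (CommRingCat.of k))›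
  rw [show PicF.cl M = 1 from (PicMul.cl_eq_iff.2 (NefPull.triv_of_subsingleton hM)).trans PicMul.one_def.symm,
    PicMul.pullCl_one, mul_one]

variable {J : Over (Spec (CommRingCat.of k))} [GrpObj J] [IsCommMonObj J]
  {ψ : (ModFun.PicDeg f 0).Hom ⊤ J} (hJ : Jac.IsJacobian f ⊤ J ψ)
  {j : Over.mk f ⟶ J} (hj : Jac.IsAbelJacobiAt f σ ψ j)

include hσ hJ hj in
/-- An equality of sums in the Jacobian is linear equivalence of the divisors. -/
theorem pcl_eq {a b c d : B (k := k) ⟶ Over.mk f} (h : (a ≫ j) * (b ≫ j) = (c ≫ j) * (d ≫ j)) :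
    pcl (img f a) (isClosed_img f a) * pcl (img f b) (isClosed_img f b) =
      pcl (img f c) (isClosed_img f c) * pcl (img f d) (isClosed_img f d) := by
  obtain ⟨ζ, hc, hm, -, -, -⟩ := exists_data f σ hσ hJ
  have hA := isAbel_of_classifies f σ hσ hc hj
  let o := cst f σ hσ (B (k := k))
  have h1 : ∀ x : B (k := k) ⟶ Over.mk f, Rel f B (cls f σ hσ ζ (x ≫ j) * pt f B x) (pt f B o) := fun x => by
    refine ((isAbel_rel f σ hσ ζ hA x).mul (Rel.refl (pt f B x))).trans (Rel.of_eq ?_)
    rw [δ, mul_assoc, mul_comm (ptInv f B x), pt_mul_ptInv, mul_one]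
  have h2 : ∀ x y : B (k := k) ⟶ Over.mk f,
      Rel f B (cls f σ hσ ζ ((x ≫ j) * (y ≫ j)) * (pt f B x * pt f B y)) (pt f B o * pt f B o) := fun x y => by
    refine (Rel.of_eq ?_).trans ((h1 x).mul (h1 y))
    rw [hm]
    exact mul_mul_mul_comm _ _ _ _
  have h3 := h2 a b
  rw [h] at h3
  obtain ⟨M, hMc, hM⟩ := cls_invertible f σ hσ ζ ((c ≫ j) * (d ≫ j))
  obtain ⟨M', -, hMM⟩ := EllLaw.cl_inverse hM
  rw [hMc] at hMM
  have h4 := (Rel.refl (f := f) (PicF.cl M')).mul (h3.trans (h2 c d).symm)
  have key : ∀ y, PicF.cl M' * (cls f σ hσ ζ ((c ≫ j) * (d ≫ j)) * y) = y := fun y => by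
    rw [← mul_assoc, mul_comm (PicF.cl M'), hMM, one_mul]
  rw [key, key] at h4
  have h5 := pullCl_of_rel f h4
  rwa [PicMul.pullCl_mul, PicMul.pullCl_mul, pullCl_pt, pullCl_pt, pullCl_pt, pullCl_pt] at h5

end Groth.Agent.Torelli18
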