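import Groth.Agent.CurveCohLib.Clifford
import Groth.Agent.CurveCohLib.Pencil
import Groth.Agent.CurvePts22.Twist
import Groth.Agent.Synt29.ExtOne
import Groth.Agent.GrLib8.SurfExt.Hartogs
import Groth.Agent.H23.PicMul
import Groth.Agent.EllLaw.Law

/-!
# Effective classes of degree one and two on a curve
-/

set_option autoImplicit false
set_option linter.style.haveILetI false
set_option linter.unusedSectionVars false
set_option backward.isDefEq.respectTransparency false
set_option backward.isDefEq.respectTransparency.types false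
set_option maxHeartbeats 1000000
set_option synthInstance.maxHeartbeats 200000

universe u

open CategoryTheory CategoryTheory.Limits AlgebraicGeometry TopologicalSpace

noncomputable section

namespace Groth.Agent.Torelli18

open Groth.Agent Groth.Agent.CurvePoint Groth.Agent.CurveBundle Groth.Agent.CurveSlope Groth.Agent.CurveStable
open Groth.Agent.H23 Groth.Agent.H23.PicMul
open scoped Groth.Agent.H23.PicMul

attribute [local instance] PicMul.clMonoid

variable (k : Type u) [Field k] [IsAlgClosed k] {X : Scheme.{u}} [X.Over (Spec (CommRingCat.of k))]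
  [IsIntegral X] [IsProper (X ↘ Spec (CommRingCat.of k))] [Smooth (X ↘ Spec (CommRingCat.of k))]

/-- The number of independent sections. -/
abbrev h0 (L : X.Modules) : ℕ := Module.finrank k (Coh.HH X L 0)

/-- The twist down by a point. -/
abbrev tw (L : X.Modules) (p : X) (hp : IsClosed ({p} : Set X)) : X.Modules :=
  (DCoh.tensorBi.obj L).obj (ptMod p hp)

variable (hdim : topologicalKrullDim X = 1)
include k hdim

theorem h0_congr {L M : X.Modules} (e : L ≅ M) : h0 k L = h0 k M :=
  (CurveCohLib.hhEquiv (k := k) e 0).finrank_eq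

theorem isInvertible_tw {L : X.Modules} (hL : PicF.IsInvertible L) (p : X) (hp : IsClosed ({p} : Set X)) :
    PicF.IsInvertible (tw L p hp) :=
  H23.PicMul.isInvertible_tensor hL (isInvertible_ptMod p hp k hdim)

theorem deg_tw {L : X.Modules} (hL : PicF.IsInvertible L) (p : X) (hp : IsClosed ({p} : Set X)) :
    Curv2.deg k X (tw L p hp) 1 = Curv2.deg k X L 1 - 1 := by
  rw [CurveRR.deg_tensor k hdim hL (isInvertible_ptMod p hp k hdim), deg_ptMod p hp k]
  ring

theorem deg_nonneg {M : X.Modules} (hM : PicF.IsInvertible M) (h : 1 ≤ h0 k M) : 0 ≤ Curv2.deg k X M 1 := by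
  obtain ⟨s, hs⟩ := CurveRR.exists_hom_ne_zero k (P := M) (by
    show h0 k M ≠ 0
    omega)
  have h1 := (CurveDeg.deg_le_and_isIso k hdim.le InvX.isInvertible_structureModule hM s hs).1
  rw [CurveDeg.deg_structureModule] at h1
  exact h1

theorem h0_le_one (hg : 1 ≤ Curv2.genus k X) {M : X.Modules} (hM : PicF.IsInvertible M)
    (hd : Curv2.deg k X M 1 = 1) : h0 k M ≤ 1 := by
  by_contra h
  have := CurveCohLib.Clifford.dichotomy k hdim hM (m := 1) (show 1 + 1 ≤ h0 k M by omega)
  omega

theorem h0_le_two (hg : 1 ≤ Curv2.genus k X) {M : X.Modules} (hM : PicF.IsInvertible M)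
    (hd : Curv2.deg k X M 1 = 2) : h0 k M ≤ 2 := by
  by_contra h
  have := CurveCohLib.Clifford.dichotomy k hdim hM (m := 2) (show 2 + 1 ≤ h0 k M by omega)
  omega

theorem h0_tw_le {L : X.Modules} (hL : PicF.IsInvertible L) (p : X) (hp : IsClosed ({p} : Set X)) :
    h0 k (tw L p hp) ≤ h0 k L := by
  obtain ⟨h1, h2⟩ := CurvePts22.finrank_twist_rat k hdim hL (hp := hp) (euler_quot p hp k)
  by_cases h : ∀ s : Coh.structureModule X ⟶ L, p ∉ CohB1.genLocus L s
  · exact (h2 h).le
  · obtain ⟨s, hs⟩ := not_forall.1 h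
    have := h1 s (not_not.1 hs)
    change h0 k (tw L p hp) + 1 = h0 k L at this
    omega

/-- A second base point stays a base point after removing a first one. -/
theorem base_twist {L : X.Modules} (hL : PicF.IsInvertible L) {p q : X} (hp : IsClosed ({p} : Set X))
    (hq : IsClosed ({q} : Set X)) (hne : q ≠ p) (hq0 : h0 k (tw L q hq) = h0 k L) :
    h0 k (tw (tw L p hp) q hq) = h0 k (tw L p hp) := by
  obtain ⟨-, h2⟩ := CurvePts22.finrank_twist_rat k hdim (isInvertible_tw k hdim hL p hp)
    (hp := hq) (euler_quot q hq k)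
  refine h2 fun s hs => ?_
  let g : tw L p hp ⟶ L :=
    (DCoh.tensorBi.obj L).map (ClSub.idealModι (ptIdeal p hp)) ≫ (KFlatLib.tensorUnitIso L).hom
  obtain ⟨h1, -⟩ := CurvePts22.finrank_twist_rat k hdim hL (hp := hq) (euler_quot q hq k)
  obtain ⟨U₀, hqU, hfr⟩ := InvX.mem_genLocus hs
  let W : X.Opens := U₀ ⊓ ⟨({p} : Set X)ᶜ, hp.isOpen_compl⟩
  haveI : IsIso ((Scheme.Modules.restrictFunctor W.ι).map s) :=
    (InvX.isIso_restrict_iff s W).2 (by
      have h3 := hfr.res (show W ≤ U₀ from inf_le_left)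
      rwa [AModX.res_res] at h3)
  haveI : IsIso ((Scheme.Modules.restrictFunctor W.ι).map g) := by
    refine Synt29.ExtOne.isIso_restrict_of_stalk W g fun x hx => ?_
    haveI := GrLib8.SurfExt.isIso_stalk_idealModι (ptIdeal p hp) (x := x) hx.2
    haveI : IsIso ((DerSch.stalkFunctor X x).map ((DCoh.tensorBi.obj L).map (ClSub.idealModι (ptIdeal p hp)))) :=
      (NatIso.isIso_map_iff (KFlatLib.stalkTensorLeftIso L x) (ClSub.idealModι (ptIdeal p hp))).2 (inferInstanceAs
        (IsIso ((MonoidalCategory.tensorLeft _).map ((DerSch.stalkFunctor X x).map (ClSub.idealModι (ptIdeal p hp))))))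
    haveI : IsIso ((DerSch.stalkFunctor X x).map g) := by
      rw [Functor.map_comp]
      infer_instance
    exact ConcreteCategory.bijective_of_isIso ((DerSch.stalkFunctor X x).map g)
  have hW : IsIso ((Scheme.Modules.restrictFunctor W.ι).map (s ≫ g)) := by
    rw [Functor.map_comp]
    infer_instance
  have hmem : q ∈ CohB1.genLocus L (s ≫ g) :=
    Opens.mem_sSup.2 ⟨W, hW, ⟨hqU, hne⟩⟩
  have := h1 (s ≫ g) hmem
  change h0 k (tw L q hq) + 1 = h0 k L at this
  omega

/-- A class of degree two whose sections may vanish at each of three points moves. -/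
theorem two_le_of_three {L : X.Modules} (hL : PicF.IsInvertible L) (hd : Curv2.deg k X L 1 = 2) {p q r : X}
    (hp : IsClosed ({p} : Set X)) (hq : IsClosed ({q} : Set X)) (hr : IsClosed ({r} : Set X))
    (hpq : q ≠ p) (hpr : r ≠ p) (hqr : r ≠ q)
    (h1 : 1 ≤ h0 k (tw L p hp)) (h2 : 1 ≤ h0 k (tw L q hq)) (h3 : 1 ≤ h0 k (tw L r hr)) : 2 ≤ h0 k L := by
  by_contra hlt
  have := h0_tw_le k hdim hL p hp
  have := h0_tw_le k hdim hL q hq
  have := h0_tw_le k hdim hL r hr
  have hL1 := isInvertible_tw k hdim hL p hp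
  have e1 := base_twist k hdim hL hp hq hpq (by omega)
  have e2 := base_twist k hdim hL hp hr hpr (by omega)
  have e3 := base_twist k hdim hL1 hq hr hqr e2
  have hL2 := isInvertible_tw k hdim hL1 q hq
  have h4 := deg_nonneg k hdim (isInvertible_tw k hdim hL2 r hr) (by omega)
  rw [deg_tw k hdim hL2, deg_tw k hdim hL1, deg_tw k hdim hL] at h4
  omega

/-- A class of degree one is effective at one point only. -/
theorem false_of_two (hg : 1 ≤ Curv2.genus k X) {A : X.Modules} (hA : PicF.IsInvertible A)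
    (hd : Curv2.deg k X A 1 = 1) {p q : X}
    (hp : IsClosed ({p} : Set X)) (hq : IsClosed ({q} : Set X)) (hpq : q ≠ p)
    (h1 : 1 ≤ h0 k (tw A p hp)) (h2 : 1 ≤ h0 k (tw A q hq)) : False := by
  have := h0_le_one k hdim hg hA hd
  have := h0_tw_le k hdim hA p hp
  have := h0_tw_le k hdim hA q hq
  have e1 := base_twist k hdim hA hp hq hpq (by omega)
  have hA1 := isInvertible_tw k hdim hA p hp
  have h4 := deg_nonneg k hdim (isInvertible_tw k hdim hA1 q hq) (by omega)
  rw [deg_tw k hdim hA1, deg_tw k hdim hA] at h4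
  omega

/-- The class of the ideal of a point. -/
abbrev pcl (p : X) (hp : IsClosed ({p} : Set X)) : PicF.Cl X := PicF.cl (ptMod p hp)

/-- An inverse of two points has degree two and is effective at each. -/
theorem of_inverse_two {L : X.Modules} (hL : PicF.IsInvertible L) {p q : X}
    (hp : IsClosed ({p} : Set X)) (hq : IsClosed ({q} : Set X))
    (h : PicF.cl L * pcl p hp * pcl q hq = 1) :
    Curv2.deg k X L 1 = 2 ∧ 1 ≤ h0 k (tw L p hp) := by
  have h' : PicF.cl (tw (tw L p hp) q hq) = PicF.cl (Coh.structureModule X) := h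
  obtain ⟨e⟩ := PicMul.cl_eq_iff.1 h'
  have hL1 := isInvertible_tw k hdim hL p hp
  have hd := CurveRR.deg_congr k e 1
  rw [deg_tw k hdim hL1, deg_tw k hdim hL, CurveDeg.deg_structureModule] at hd
  refine ⟨by omega, le_trans ?_ (h0_tw_le k hdim hL1 q hq)⟩
  rw [h0_congr k hdim e]
  exact (CurveCohLib.Clifford.finrank_h0_structure k (X := X)).ge

/-- An inverse of one point has degree one and is effective there. -/
theorem of_inverse_one {A : X.Modules} (hA : PicF.IsInvertible A) {p : X}
    (hp : IsClosed ({p} : Set X)) (h : PicF.cl A * pcl p hp = 1) :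
    Curv2.deg k X A 1 = 1 ∧ 1 ≤ h0 k (tw A p hp) := by
  have h' : PicF.cl (tw A p hp) = PicF.cl (Coh.structureModule X) := h
  obtain ⟨e⟩ := PicMul.cl_eq_iff.1 h'
  have hd := CurveRR.deg_congr k e 1
  rw [deg_tw k hdim hA, CurveDeg.deg_structureModule] at hd
  refine ⟨by omega, ?_⟩
  rw [h0_congr k hdim e]
  exact (CurveCohLib.Clifford.finrank_h0_structure k (X := X)).ge

/-- Points with the same class coincide. -/
theorem eq_of_pcl (hg : 1 ≤ Curv2.genus k X) {p q : X} (hp : IsClosed ({p} : Set X))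
    (hq : IsClosed ({q} : Set X)) (h : pcl p hp = pcl q hq) : p = q := by
  by_contra hne
  obtain ⟨A, hA, hAp⟩ := EllLaw.cl_inverse (isInvertible_ptMod p hp k hdim)
  rw [mul_comm] at hAp
  obtain ⟨hd, h1⟩ := of_inverse_one k hdim hA hp hAp
  have hAq : PicF.cl A * pcl q hq = 1 := h ▸ hAp
  exact false_of_two k hdim hg hA hd hp hq (Ne.symm hne) h1 (of_inverse_one k hdim hA hq hAq).2

/-- The pencil of degree two is unique in genus at least two. -/
theorem g12_unique (hg : 2 ≤ Curv2.genus k X) {M M' : X.Modules} (hMi : PicF.IsInvertible M)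
    (hMi' : PicF.IsInvertible M') (hMd : Curv2.deg k X M 1 = 2) (hMd' : Curv2.deg k X M' 1 = 2)
    (h2 : 2 ≤ h0 k M) (h2' : 2 ≤ h0 k M') : Nonempty (M ≅ M') := by
  have h2e : h0 k M = 2 := le_antisymm (h0_le_two k hdim (by omega) hMi hMd) h2
  haveI := CurveCohLib.isNoetherian_of_proper (k := k) (X := X)
  have hgg : ∀ (p : X) (hp : IsClosed ({p} : Set X)),
      Module.finrank k (Coh.HH X ((DCoh.tensorBi.obj M).obj (ptMod p hp)) 0) <
        Module.finrank k (Coh.HH X M 0) := fun p hp => by
    have := h0_le_one k hdim (by omega) (isInvertible_tw k hdim hMi p hp)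
      (by rw [deg_tw k hdim hMi, hMd]; rfl)
    show h0 k (tw M p hp) < h0 k M
    omega
  by_contra hcon
  have hom0 : ∀ φ : M ⟶ M', φ = 0 := fun φ => by
    by_contra hφ
    haveI := (CurveDeg.deg_le_and_isIso k hdim.le hMi hMi' φ hφ).2 (by rw [hMd, hMd'])
    exact hcon ⟨asIso φ⟩
  have h4 := CurveCohLib.Pencil.two_mul_h0_le k hdim hMi hMi' h2e hgg hom0
  have hT : PicF.IsInvertible (CohB1.tensorMod M M') := InvX.isInvertible_tensorMod hMi hMi'
  have hd : Curv2.deg k X (CohB1.tensorMod M M') 1 = _ := CurveRR.deg_tensor k hdim hMi hMi'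
  rw [hMd, hMd'] at hd
  change 2 ≤ Module.finrank k (Coh.HH X M' 0) at h2'
  have := CurveCohLib.Clifford.dichotomy k hdim hT (m := 3) (by omega)
  omega

end Groth.Agent.Torelli18
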