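import Groth.Agent.Torelli18.Divisor
import Groth.Agent.Torelli18.Jac
import Groth.Agent.Torelli18.Main
import Groth.Agent.H23.SymCurve
import Groth.Agent.PicCurve.SymPow

/-!
# The subvarieties `W^r` of the Jacobian, through their rational points
-/

set_option autoImplicit false
set_option linter.style.haveILetI false
set_option linter.unusedSectionVars false
set_option backward.isDefEq.respectTransparency false
set_option backward.isDefEq.respectTransparency.types false
set_option maxHeartbeats 1000000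
set_option synthInstance.maxHeartbeats 400000

universe u

open CategoryTheory CategoryTheory.Limits AlgebraicGeometry MonoidalCategory CartesianMonoidalCategory
open scoped CategoryTheory.MonObj

noncomputable section

namespace Groth.Agent.Torelli18

open Groth.Agent Groth.Agent.H23 Groth.Agent.H23.PicMul Groth.Agent.EllLaw Groth.Agent.PicCurve
  Groth.Agent.PicTangent Groth.Agent.PicTangent.JacDiff Groth.Agent.Pic13Lib Groth.Agent.H23.SymHilb
open scoped Groth.Agent.H23.PicMul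

attribute [local instance] PicMul.clMonoid PicMul.law

variable {k : Type u} [Field k] [IsAlgClosed k] {X : Scheme.{u}} [X.Over (Spec (CommRingCat.of k))]
  [IsProper (X ↘ Spec (CommRingCat.of k))] [Smooth (X ↘ Spec (CommRingCat.of k))]
  [SmoothOfRelativeDimension 1 (X ↘ Spec (CommRingCat.of k))]
  [GeometricallyConnected (X ↘ Spec (CommRingCat.of k))] [IsIntegral X]
  (hdim : topologicalKrullDim X = 1)
  (σ : Spec (CommRingCat.of k) ⟶ X) (hσ : σ ≫ (X ↘ Spec (CommRingCat.of k)) = 𝟙 _)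
  {J : Over (Spec (CommRingCat.of k))} [GrpObj J] [IsCommMonObj J]

/-- The rigidified class of a Jacobian with the Abel map. -/
structure JData (ψ : (ModFun.PicDeg (X ↘ Spec (CommRingCat.of k)) 0).Hom ⊤ J) (j : Over.mk (X ↘ Spec (CommRingCat.of k)) ⟶ J) where
  ζ : PicF.Rig (X ↘ Spec (CommRingCat.of k)) σ hσ J
  classifies : Classifies (X ↘ Spec (CommRingCat.of k)) σ hσ ψ ζ
  mulClass : IsMulClass (X ↘ Spec (CommRingCat.of k)) σ hσ ζ
  abel : IsAbel (X ↘ Spec (CommRingCat.of k)) σ hσ ζ j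
  proper : IsProper J.hom
  lft : LocallyOfFiniteType J.hom

theorem exists_jData {ψ : (ModFun.PicDeg (X ↘ Spec (CommRingCat.of k)) 0).Hom ⊤ J} {j : Over.mk (X ↘ Spec (CommRingCat.of k)) ⟶ J} (hJ : Jac.IsJacobian (X ↘ Spec (CommRingCat.of k)) ⊤ J ψ)
    (hj : Jac.IsAbelJacobiAt (X ↘ Spec (CommRingCat.of k)) σ ψ j) : Nonempty (JData σ hσ ψ j) := by
  obtain ⟨ζ, hc, hm, hp, -, -⟩ := exists_data (X ↘ Spec (CommRingCat.of k)) σ hσ hJ
  exact ⟨⟨ζ, hc, hm, isAbel_of_classifies (X ↘ Spec (CommRingCat.of k)) σ hσ hc hj, hp, inferInstance⟩⟩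

variable {σ hσ} {ψ : (ModFun.PicDeg (X ↘ Spec (CommRingCat.of k)) 0).Hom ⊤ J} {j : Over.mk (X ↘ Spec (CommRingCat.of k)) ⟶ J} (S : JData σ hσ ψ j)

/-- The class of a rational point of the Jacobian. -/
def φ : (B (k := k) ⟶ J) →* G X :=
  MonoidHom.mk' (fun z => ⟨PicF.pullCl (toXT (X ↘ Spec (CommRingCat.of k))) (cls (X ↘ Spec (CommRingCat.of k)) σ hσ S.ζ z),
    PicClLib.isInvertibleCl_pullCl _ (cls_invertible (X ↘ Spec (CommRingCat.of k)) σ hσ S.ζ z)⟩) fun a b => Subtype.ext (by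
      show PicF.pullCl _ _ = PicF.pullCl _ _ * PicF.pullCl _ _
      rw [S.mulClass, PicMul.pullCl_mul])

theorem φ_injective : Function.Injective (φ S) := by
  intro a b h
  have h1 : PicF.pullCl (toXT (X ↘ Spec (CommRingCat.of k))) (cls (X ↘ Spec (CommRingCat.of k)) σ hσ S.ζ a) = PicF.pullCl (toXT (X ↘ Spec (CommRingCat.of k))) (cls (X ↘ Spec (CommRingCat.of k)) σ hσ S.ζ b) :=
    congrArg Subtype.val h
  have key : ∀ c : PicF.Cl (PicF.XT (X ↘ Spec (CommRingCat.of k)) (B (k := k))),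
      PicF.pullCl (pullback.fst (X ↘ Spec (CommRingCat.of k)) (B (k := k)).hom) (PicF.pullCl (toXT (X ↘ Spec (CommRingCat.of k))) c) = c := fun c => by
    rw [PicClLib.pullCl_comp, fst_toXT,
      show (Over.homMk (B (k := k)).hom (Category.comp_id _) : B (k := k) ⟶ Over.mk (𝟙 _)) = 𝟙 _ from
        Over.OverMorphism.ext rfl]
    exact (congrArg (PicF.pullCl · c) (XTmap_id _)).trans (PicClLib.pullCl_id c)
  exact hom_ext_rel (X ↘ Spec (CommRingCat.of k)) σ hσ S.classifies.1 (Rel.of_eq (by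
    show cls (X ↘ Spec (CommRingCat.of k)) σ hσ S.ζ a = cls (X ↘ Spec (CommRingCat.of k)) σ hσ S.ζ b
    rw [← key (cls (X ↘ Spec (CommRingCat.of k)) σ hσ S.ζ a), h1, key]))

/-- The base point. -/
def P₀ : Pt X := ⟨img (X ↘ Spec (CommRingCat.of k)) (cst (X ↘ Spec (CommRingCat.of k)) σ hσ B), isClosed_img (X ↘ Spec (CommRingCat.of k)) _⟩

include hdim in
theorem φ_j (a : B (k := k) ⟶ Over.mk (X ↘ Spec (CommRingCat.of k))) :
    φ S (a ≫ j) = O k hdim ⟨img (X ↘ Spec (CommRingCat.of k)) a, isClosed_img (X ↘ Spec (CommRingCat.of k)) a⟩ / O k hdim (P₀ (σ := σ) (hσ := hσ)) := by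
  have h := ((isAbel_rel (X ↘ Spec (CommRingCat.of k)) σ hσ S.ζ S.abel a).mul (Rel.refl (pt (X ↘ Spec (CommRingCat.of k)) B a))).trans (Rel.of_eq (show
      δ (X ↘ Spec (CommRingCat.of k)) B (cst (X ↘ Spec (CommRingCat.of k)) σ hσ B) a * pt (X ↘ Spec (CommRingCat.of k)) B a = pt (X ↘ Spec (CommRingCat.of k)) B (cst (X ↘ Spec (CommRingCat.of k)) σ hσ B) by
    rw [δ, mul_assoc, mul_comm (ptInv (X ↘ Spec (CommRingCat.of k)) B a), pt_mul_ptInv, mul_one]))
  have h1 := pullCl_of_rel (X ↘ Spec (CommRingCat.of k)) h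
  rw [PicMul.pullCl_mul, pullCl_pt, pullCl_pt] at h1
  have h2 : φ S (a ≫ j) * I k hdim ⟨img (X ↘ Spec (CommRingCat.of k)) a, isClosed_img (X ↘ Spec (CommRingCat.of k)) a⟩ = I k hdim (P₀ (σ := σ) (hσ := hσ)) :=
    Subtype.ext h1
  rw [O, O, inv_div_inv, ← h2, mul_div_cancel_right]

include hdim in
theorem dg_φ (z : B (k := k) ⟶ J) : dg k (φ S z) = 0 := by
  obtain ⟨L, hLc, hL⟩ := cls_invertible (X ↘ Spec (CommRingCat.of k)) σ hσ S.ζ z
  letI := JacDiff.overX (X ↘ Spec (CommRingCat.of k)) (𝟙 (Spec (CommRingCat.of k)))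
  haveI : IsProper (PicF.XT (X ↘ Spec (CommRingCat.of k)) (B (k := k)) ↘ Spec (CommRingCat.of k)) :=
    inferInstanceAs (IsProper (pullback.snd (X ↘ Spec (CommRingCat.of k)) (𝟙 _)))
  haveI : IsIso (toXT (X ↘ Spec (CommRingCat.of k))) := by
    refine ⟨pullback.fst (X ↘ Spec (CommRingCat.of k)) (B (k := k)).hom, pullback.lift_fst _ _ _, ?_⟩
    rw [fst_toXT, show (Over.homMk (B (k := k)).hom (Category.comp_id _) : B (k := k) ⟶ Over.mk (𝟙 _)) = 𝟙 _ from
      Over.OverMorphism.ext rfl]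
    exact XTmap_id _
  let t : (B (k := k)).left := (IsLocalRing.closedPoint k : PrimeSpectrum k)
  have h1 : degAt (X ↘ Spec (CommRingCat.of k)) B (PicF.cl L) t = 0 := by
    rw [hLc, cls, degAt_pull (X ↘ Spec (CommRingCat.of k)) z S.ζ.2.1]
    exact (hasFibreDegreeZeroCl_iff (X ↘ Spec (CommRingCat.of k)) S.ζ.2.1).1 S.classifies.1.1 _
  rw [show φ S z = mk (PicClLib.isInvertible_pullback (toXT (X ↘ Spec (CommRingCat.of k))) hL) from
    Subtype.ext (congrArg (PicF.pullCl (toXT (X ↘ Spec (CommRingCat.of k)))) hLc.symm), dg_mk]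
  rw [deg_pullback (toXT (X ↘ Spec (CommRingCat.of k))) (pullback.lift_snd _ _ _) (ProjUPX.isQCoh_of_isInvertible hL) 1]
  rw [← h1]
  exact (degAt_geom (X ↘ Spec (CommRingCat.of k)) hL t).symm

/-! ### Points of the Jacobian -/

/-- The image of a point of the Jacobian. -/
def imgJ (z : B (k := k) ⟶ J) : J.left := z.left (IsLocalRing.closedPoint k)

include S in
theorem eq_of_imgJ {z w : B (k := k) ⟶ J} (h : imgJ z = imgJ w) : z = w := by
  haveI := S.lft
  exact Over.OverMorphism.ext (ext_of_apply_closedPoint_eq J.hom (Over.w z) (Over.w w) h)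

include S in
theorem exists_imgJ {x : J.left} (hx : IsClosed ({x} : Set J.left)) : ∃ z : B (k := k) ⟶ J, imgJ z = x := by
  haveI := S.lft
  exact ⟨Over.homMk (pointOfClosedPoint J.hom x hx) (pointOfClosedPoint_comp J.hom x hx),
    pointOfClosedPoint_apply J.hom x hx _⟩

include S in
theorem ext_closed {A A' : Set J.left} (hA : IsClosed A) (hA' : IsClosed A')
    (h : ∀ z : B (k := k) ⟶ J, imgJ z ∈ A ↔ imgJ z ∈ A') : A = A' := by
  haveI := S.lft
  haveI : JacobsonSpace J.left := LocallyOfFiniteType.jacobsonSpace J.hom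
  rw [← closure_inter_closedPoints hA, ← closure_inter_closedPoints hA']
  congr 1
  ext x
  refine and_congr_left fun hx => ?_
  obtain ⟨z, rfl⟩ := exists_imgJ S hx
  exact h z

include S in
theorem subset_of_points {A A' : Set J.left} (hA : IsClosed A) (hA' : IsClosed A')
    (h : ∀ z : B (k := k) ⟶ J, imgJ z ∈ A → imgJ z ∈ A') : A ⊆ A' :=
  Set.inter_eq_left.1 (ext_closed S (hA.inter hA') hA fun z => ⟨fun hz => hz.1, fun hz => ⟨hz, h z hz⟩⟩)

/-- Translation acts on points as multiplication. -/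
theorem comp_transl (z : B (k := k) ⟶ J) (a : B (k := k) ⟶ J) :
    z ≫ Jac.transl J a = z * a := by
  show z ≫ (𝟙 J * (toUnit J ≫ a : J ⟶ J)) = _
  refine (map_mul (preHom (G := J) z) _ _).trans ?_
  show z ≫ 𝟙 J * z ≫ toUnit J ≫ a = _
  rw [Category.comp_id, ← Category.assoc, toUnit_unique (z ≫ toUnit J) (𝟙 (B (k := k))), Category.id_comp]

theorem transl_comp_inv (a : B (k := k) ⟶ J) :
    Jac.transl J a ≫ Jac.transl J a⁻¹ = 𝟙 J := by
  refine (map_mul (preHom (G := J) (Jac.transl J a)) _ _).trans ?_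
  show Jac.transl J a ≫ 𝟙 J * Jac.transl J a ≫ toUnit J ≫ a⁻¹ = _
  rw [Category.comp_id, ← Category.assoc, toUnit_unique (Jac.transl J a ≫ toUnit J) (toUnit J), Jac.transl,
    mul_assoc]
  have h1 : (toUnit J ≫ a) * (toUnit J ≫ a⁻¹) = 1 := by
    rw [← MonObj.comp_mul, mul_inv_cancel, MonObj.comp_one]
  rw [h1, mul_one]

theorem image_transl (a : B (k := k) ⟶ J) (A : Set J.left) :
    (Jac.transl J a).left.base '' A = (Jac.transl J a⁻¹).left.base ⁻¹' A := by
  refine Set.image_eq_preimage_of_inverse (fun x => ?_) (fun x => ?_) ▸ rfl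
  · show ((Jac.transl J a).left ≫ (Jac.transl J a⁻¹).left).base x = x
    rw [← Over.comp_left, transl_comp_inv]
    rfl
  · show ((Jac.transl J a⁻¹).left ≫ (Jac.transl J a).left).base x = x
    have h := transl_comp_inv (J := J) a⁻¹
    rw [inv_inv] at h
    rw [← Over.comp_left, h]
    rfl

theorem imgJ_mem_transl (a : B (k := k) ⟶ J) (A : Set J.left) (z : B (k := k) ⟶ J) :
    imgJ z ∈ (Jac.transl J a).left.base '' A ↔ imgJ (z * a⁻¹) ∈ A := by
  rw [image_transl, ← comp_transl]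
  rfl

theorem isClosed_transl (a : B (k := k) ⟶ J) {A : Set J.left} (hA : IsClosed A) :
    IsClosed ((Jac.transl J a).left.base '' A) := by
  rw [image_transl]
  exact hA.preimage (Jac.transl J a⁻¹).left.continuous

theorem inv_comp_inv : (𝟙 J)⁻¹ ≫ (𝟙 J)⁻¹ = 𝟙 J := by
  refine (map_inv (preHom (G := J) ((𝟙 J)⁻¹)) (𝟙 J)).trans ?_
  show ((𝟙 J)⁻¹ ≫ 𝟙 J)⁻¹ = _
  rw [Category.comp_id, inv_inv]

theorem image_inv (A : Set J.left) : ((𝟙 J)⁻¹).left.base '' A = ((𝟙 J)⁻¹).left.base ⁻¹' A := by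
  refine Set.image_eq_preimage_of_inverse (fun x => ?_) (fun x => ?_) ▸ rfl <;>
  · show (((𝟙 J)⁻¹).left ≫ ((𝟙 J)⁻¹).left).base x = x
    rw [← Over.comp_left, inv_comp_inv]
    rfl

theorem imgJ_mem_inv (A : Set J.left) (z : B (k := k) ⟶ J) :
    imgJ z ∈ ((𝟙 J)⁻¹).left.base '' A ↔ imgJ z⁻¹ ∈ A := by
  have h : z ≫ (𝟙 J)⁻¹ = z⁻¹ := by
    refine (map_inv (preHom (G := J) z) (𝟙 J)).trans ?_
    show (z ≫ 𝟙 J)⁻¹ = _
    rw [Category.comp_id]
  rw [image_inv, ← h]
  rfl

theorem isClosed_inv {A : Set J.left} (hA : IsClosed A) : IsClosed (((𝟙 J)⁻¹).left.base '' A) := by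
  rw [image_inv]
  exact hA.preimage ((𝟙 J)⁻¹).left.continuous

/-! ### The images of the powers -/

variable (j) in
/-- The image `W^r` of the `r`-th power of the curve. -/
def W (r : ℕ) : Set J.left :=
  Set.range ((List.ofFn fun i : Fin r => prj (X ↘ Spec (CommRingCat.of k)) r i ≫ j).prod).left.base

include S in
theorem isClosed_W (r : ℕ) : IsClosed (W j r) := by
  haveI := S.proper
  haveI : IsProper (WidePullback.base (fun _ : Fin r => (X ↘ Spec (CommRingCat.of k)))) :=
    SymCurve.base_property @IsProper (X ↘ Spec (CommRingCat.of k)) inferInstance r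
  let F := ((List.ofFn fun i : Fin r => prj (X ↘ Spec (CommRingCat.of k)) r i ≫ j).prod).left
  haveI : IsProper (F ≫ J.hom) := by
    rw [show F ≫ J.hom = WidePullback.base (fun _ : Fin r => (X ↘ Spec (CommRingCat.of k))) from Over.w _]
    infer_instance
  haveI : IsProper F := IsProper.of_comp F J.hom
  exact F.isClosedMap.isClosed_range

theorem comp_sum {r : ℕ} (w : B (k := k) ⟶ powOver (X ↘ Spec (CommRingCat.of k)) r) :
    w ≫ (List.ofFn fun i : Fin r => prj (X ↘ Spec (CommRingCat.of k)) r i ≫ j).prod =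
      (List.ofFn fun i : Fin r => (w ≫ prj (X ↘ Spec (CommRingCat.of k)) r i) ≫ j).prod := by
  refine (map_list_prod (preHom (G := J) w) _).trans ?_
  rw [List.map_ofFn]
  refine congrArg List.prod (List.ofFn_inj.2 (funext fun i => ?_))
  exact (Category.assoc w (prj (X ↘ Spec (CommRingCat.of k)) r i) j).symm

include hdim in
theorem φ_sum {r : ℕ} (a : Fin r → (B (k := k) ⟶ Over.mk (X ↘ Spec (CommRingCat.of k)))) :
    φ S (List.ofFn fun i => a i ≫ j).prod =
      D k hdim (List.ofFn fun i => (⟨img (X ↘ Spec (CommRingCat.of k)) (a i), isClosed_img (X ↘ Spec (CommRingCat.of k)) (a i)⟩ : Pt X)) /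
        O k hdim (P₀ (σ := σ) (hσ := hσ)) ^ r := by
  induction r with
  | zero => simp [D]
  | succ r ih =>
    rw [List.ofFn_succ, List.ofFn_succ, List.prod_cons, map_mul, φ_j hdim S, ih (fun i => a i.succ), D_cons,
      pow_succ', div_mul_div_comm]

include hdim in
/-- The points of `W^r` are the classes of effective divisors of degree `r`. -/
theorem mem_W_iff (r : ℕ) (z : B (k := k) ⟶ J) :
    imgJ z ∈ W j r ↔ 1 ≤ H k (φ S z * O k hdim (P₀ (σ := σ) (hσ := hσ)) ^ r) := by
  have hd : dg k (φ S z * O k hdim (P₀ (σ := σ) (hσ := hσ)) ^ r) = r := by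
    rw [dg_mul k hdim, dg_φ hdim S]
    have : ∀ n : ℕ, dg k (O k hdim (P₀ (σ := σ) (hσ := hσ)) ^ n) = n := fun n => by
      induction n with
      | zero => rw [pow_zero]; exact dg_one k
      | succ n ih => rw [pow_succ, dg_mul k hdim, ih, dg_O]; push_cast; ring
    rw [this, zero_add]
  rw [eff_iff k hdim hd]
  let F := (List.ofFn fun i : Fin r => prj (X ↘ Spec (CommRingCat.of k)) r i ≫ j).prod
  constructor
  · rintro ⟨q, hq⟩
    haveI : IsProper (WidePullback.base (fun _ : Fin r => (X ↘ Spec (CommRingCat.of k)))) :=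
      SymCurve.base_property @IsProper (X ↘ Spec (CommRingCat.of k)) inferInstance r
    haveI : JacobsonSpace (powOver (X ↘ Spec (CommRingCat.of k)) r).left :=
      LocallyOfFiniteType.jacobsonSpace (WidePullback.base (fun _ : Fin r => (X ↘ Spec (CommRingCat.of k))))
    haveI := S.lft
    have hzc : IsClosed ({imgJ z} : Set J.left) := (pointEquivClosedPoint J.hom ⟨z.left, Over.w z⟩).2
    obtain ⟨q', hq', hqc⟩ := nonempty_inter_closedPoints (Z := F.left.base ⁻¹' {imgJ z}) ⟨q, hq⟩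
      (hzc.preimage F.left.continuous).isLocallyClosed
    let w : B (k := k) ⟶ powOver (X ↘ Spec (CommRingCat.of k)) r :=
      Over.homMk (pointOfClosedPoint (WidePullback.base (fun _ : Fin r => (X ↘ Spec (CommRingCat.of k)))) q' hqc)
        (pointOfClosedPoint_comp _ q' hqc)
    have hw : w ≫ F = z := eq_of_imgJ S (by
      show F.left.base (pointOfClosedPoint (WidePullback.base (fun _ : Fin r => (X ↘ Spec (CommRingCat.of k)))) q' hqc _) = _
      rw [pointOfClosedPoint_apply]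
      exact hq')
    refine ⟨List.ofFn fun i : Fin r => (⟨img (X ↘ Spec (CommRingCat.of k)) (w ≫ prj (X ↘ Spec (CommRingCat.of k)) r i), isClosed_img (X ↘ Spec (CommRingCat.of k)) _⟩ : Pt X), by simp, ?_⟩
    rw [← hw, comp_sum, φ_sum hdim S, div_mul_cancel]
  · rintro ⟨l, rfl, hl⟩
    let a : Fin l.length → (B (k := k) ⟶ Over.mk (X ↘ Spec (CommRingCat.of k))) := fun i => ptAt (X ↘ Spec (CommRingCat.of k)) (l.get i).1 (l.get i).2
    let w : B (k := k) ⟶ powOver (X ↘ Spec (CommRingCat.of k)) l.length :=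
      Over.homMk (WidePullback.lift (𝟙 _) (fun i => (a i).left) (fun i => Over.w (a i)))
        (WidePullback.lift_base ..)
    have hwi : ∀ i, w ≫ prj (X ↘ Spec (CommRingCat.of k)) l.length i = a i := fun i =>
      Over.OverMorphism.ext (WidePullback.lift_π ..)
    have hw : w ≫ F = z := φ_injective S (by
      rw [comp_sum, φ_sum hdim S, div_eq_iff_eq_mul, hl]
      refine congrArg (D k hdim) (List.ext_get (by simp) fun n h1 h2 => Subtype.ext ?_)
      simp only [List.get_eq_getElem, List.getElem_ofFn]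
      rw [hwi]
      exact pointOfClosedPoint_apply (X ↘ Spec (CommRingCat.of k)) _ _ _)
    exact ⟨w.left (IsLocalRing.closedPoint k), by rw [← hw]; rfl⟩

end Groth.Agent.Torelli18
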